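import Cfsg.Agent.Lib.SmallGroups.Few.Vanish
import Cfsg.Agent.Lib.SmallGroups.Basic
import Cfsg.Agent.S0344
import Cfsg.Agent.Lib.Zassenhaus.OddPSL
import Cfsg.Agent.Lib.CharCore.TISolvable

/-!
# Simple groups with `p + 1` self-centralising Sylow `p`-subgroups
-/

set_option autoImplicit false

namespace Cfsg.Agent.SmallGroups.Few

open SelfCent SelfCent.Setup MulAction
open Cfsg.Agent.CharDeep

variable {G : Type*} [Group G] [Fintype G] {p : ℕ} [hp : Fact p.Prime]

/-- Few Sylow subgroups of the smallest kind give `PSL(2, p)`. -/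
theorem exists_psl_prime [IsSimpleGroup G] (hne : ¬ IsMulCommutative G) (s : Setup G p)
    (hK : s.K = ⊥) (hp5 : 5 ≤ p) (hem : 2 * Nat.card s.auto + 1 = p)
    (hG : Nat.card G = Nat.card s.auto * p * (p + 1)) :
    ∃ (F : Type) (_ : Field F) (_ : Fintype F), Fintype.card F = p ∧
      Nonempty (G ≃* Matrix.ProjectiveSpecialLinearGroup (Fin 2) F) := by
  classical
  set e := Nat.card s.auto with hedef
  set P := Subgroup.zpowers s.z with hPdef
  set Ω := G ⧸ s.norm with hΩ
  haveI : Fintype Ω := Fintype.ofFinite _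
  obtain ⟨φ, hsurj, hφ, hker⟩ := s.exists_act hK
  have hPc : Nat.card P = p := by rw [hPdef, Nat.card_zpowers, s.orderOf_z]
  have hN : Nat.card s.norm = e * p := by
    have h1 := s.card_normalizer
    rw [show Nat.card s.K = 1 by rw [hK, Subgroup.card_bot], mul_one] at h1
    exact h1
  have hcard : Nat.card Ω = p + 1 := by
    have h := s.norm.index_mul_card
    rw [hN, hG, mul_comm] at h
    exact Nat.eq_of_mul_eq_mul_left (Nat.mul_pos Nat.card_pos hp.out.pos) h
  set o : Ω := QuotientGroup.mk (1 : G) with ho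
  have hstab : ∀ g : G, g • o = o ↔ g ∈ s.norm := by
    intro g
    rw [ho, MulAction.Quotient.smul_coe, smul_eq_mul, mul_one, QuotientGroup.eq, mul_one,
      inv_mem_iff]
  -- `z` fixes only `o`
  have hzfix : ∀ Q : Ω, s.z • Q = Q → Q = o := by
    intro Q hQ
    obtain ⟨g, rfl⟩ := QuotientGroup.mk_surjective Q
    rw [MulAction.Quotient.smul_coe, smul_eq_mul, QuotientGroup.eq] at hQ
    have h1 : g⁻¹ * s.z * g ∈ s.norm := by
      have : g⁻¹ * s.z * g = ((s.z * g)⁻¹ * g)⁻¹ := by group
      rw [this]; exact inv_mem hQ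
    have h2 : orderOf (g⁻¹ * s.z * g) = p := by
      rw [show g⁻¹ * s.z * g = (MulAut.conj g⁻¹).toMonoidHom s.z by simp,
        orderOf_injective _ (MulEquiv.injective _), s.orderOf_z]
    have h3 : φ ⟨_, h1⟩ = 1 := by
      have h4 : orderOf (φ ⟨_, h1⟩) ∣ p := by
        refine (orderOf_map_dvd φ _).trans ?_
        rw [Subgroup.orderOf_mk, h2]
      rcases (Nat.dvd_prime hp.out).mp h4 with h5 | h5
      · exact orderOf_eq_one_iff.mp h5
      · have h6 : orderOf (φ ⟨_, h1⟩) ≤ e := Nat.le_of_dvd Nat.card_pos (orderOf_dvd_natCard _)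
        omega
    have h7 : g⁻¹ * s.z * g ∈ P := (hker _).mp h3
    have h8 : g⁻¹ ∈ s.norm := by
      rw [Subgroup.mem_normalizer_iff]
      have key : P.map (MulAut.conj g⁻¹).toMonoidHom = P := by
        refine Subgroup.eq_of_le_of_card_ge ?_ ?_
        · rw [hPdef, MonoidHom.map_zpowers, Subgroup.zpowers_le]
          simpa using h7
        · rw [Nat.card_congr (P.equivMapOfInjective
            (MulAut.conj g⁻¹).toMonoidHom (MulAut.conj g⁻¹).injective).toEquiv]
      intro w
      constructor
      · intro hw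
        show g⁻¹ * w * g⁻¹⁻¹ ∈ P
        rw [← key]
        exact ⟨w, hw, rfl⟩
      · intro hw
        have hw' : g⁻¹ * w * g⁻¹⁻¹ ∈ P := hw
        rw [← key] at hw'
        obtain ⟨y, hy, hyw⟩ := hw'
        exact (MulAut.conj g⁻¹).injective hyw ▸ hy
    rw [ho, QuotientGroup.eq]
    simpa using inv_mem h8
  have hzp : ∀ k : ZMod p, s.zp k • o = o := fun k =>
    (hstab _).mpr (Subgroup.le_normalizer (pow_mem (Subgroup.mem_zpowers _) _))
  -- the subgroup of order `p` is regular on the remaining points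
  have hfree : ∀ k : ZMod p, ∀ Q : Ω, Q ≠ o → s.zp k • Q = Q → k = 0 := by
    intro k Q hQ hfix
    by_contra hk
    apply hQ
    apply hzfix
    have h1 : s.z = s.zp k ^ (k⁻¹).val := by rw [← s.zp_mul, mul_inv_cancel₀ hk, s.zp_one]
    rw [h1]
    exact MulAction.mem_stabilizer_iff.mp (pow_mem (MulAction.mem_stabilizer_iff.mpr hfix) _)
  have horb : ∀ b : Ω, b ≠ o → ∀ c : Ω, c ≠ o → ∃ k : ZMod p, s.zp k • b = c := by
    intro b hb c hc
    let f : ZMod p → {Q : Ω // Q ≠ o} := fun k => ⟨s.zp k • b, fun h => hb (by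
      rw [← hzp k] at h
      exact smul_left_cancel _ h)⟩
    have hinj : Function.Injective f := by
      intro i j hij
      have h1 : s.zp i • b = s.zp j • b := congrArg Subtype.val hij
      have h2 : s.zp (i - j) • b = b := by
        have h3 : s.zp (i - j) * s.zp j = s.zp i := by rw [← s.zp_add, sub_add_cancel]
        rw [← h3, mul_smul] at h1
        have h4 : s.zp (i - j) • (s.zp j • b) = s.zp j • b := h1
        have h5 := hfree (i - j) (s.zp j • b) (f j).2 h4
        rw [h5, s.zp_zero, one_smul]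
      exact sub_eq_zero.mp (hfree _ b hb h2)
    have hbij : Function.Bijective f := (Nat.bijective_iff_injective_and_card f).mpr ⟨hinj, by
      rw [Nat.card_zmod, Nat.card_eq_fintype_card, Fintype.card_subtype_compl,
        Fintype.card_subtype_eq, ← Nat.card_eq_fintype_card, hcard]
      omega⟩
    obtain ⟨k, hk⟩ := hbij.2 ⟨c, hc⟩
    exact ⟨k, congrArg Subtype.val hk⟩
  haveI : IsPretransitive G Ω := inferInstance
  have htwo : MulAction.IsMultiplyPretransitive G Ω 2 := by
    rw [is_two_pretransitive_iff]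
    intro a b c d hab hcd
    obtain ⟨g, hg⟩ := exists_smul_eq G a o
    obtain ⟨h, hh⟩ := exists_smul_eq G o c
    have hgb : g • b ≠ o := fun h' => hab (smul_left_cancel g (hg.trans h'.symm))
    have hhd : h⁻¹ • d ≠ o := fun h' => hcd (by
      rw [inv_smul_eq_iff] at h'; rw [h', hh])
    obtain ⟨k, hk⟩ := horb _ hgb _ hhd
    refine ⟨h * s.zp k * g, ?_, ?_⟩
    · rw [mul_smul, mul_smul, hg, hzp, hh]
    · rw [mul_smul, mul_smul, hk, smul_inv_smul]
  -- the two-point stabiliser
  obtain ⟨b, hb⟩ : ∃ b : Ω, b ≠ o := by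
    have : 1 < Fintype.card Ω := by rw [← Nat.card_eq_fintype_card, hcard]; omega
    exact Fintype.exists_ne_of_one_lt_card this o
  have hab : o ≠ b := Ne.symm hb
  have hTeq : ∀ g, g ∈ Zass.two G o b ↔ g ∈ s.norm ∧ g • b = b := fun g => by
    rw [Zass.mem_two, hstab]
  have hconj : ∀ (g : s.norm) (k : ZMod p), (g : G) * s.zp k * (g : G)⁻¹ =
      s.zp (((φ g : (ZMod p)ˣ) : ZMod p) * k) := by
    intro g k
    have h1 : (g : G) * s.zp 1 * (g : G)⁻¹ = s.zp ((φ g : (ZMod p)ˣ) : ZMod p) := by
      rw [s.zp_one]; exact hφ g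
    have h2 := s.conj_zp_mul h1 k
    rwa [one_mul] at h2
  have hT3 : ∀ g ∈ Zass.two G o b, ∀ c : Ω, c ≠ o → c ≠ b → g • c = c → g = 1 := by
    intro g hg c hco hcb hgc
    obtain ⟨hgN, hgb⟩ := (hTeq g).mp hg
    obtain ⟨k, hk⟩ := horb b hb c hco
    have hk0 : k ≠ 0 := fun h => hcb (by rw [← hk, h, s.zp_zero, one_smul])
    set a := ((φ ⟨g, hgN⟩ : (ZMod p)ˣ) : ZMod p) with ha
    have h1 : s.zp (a * k) • b = c := by
      rw [← hconj ⟨g, hgN⟩ k]
      show (g * s.zp k * g⁻¹) • b = c
      rw [mul_smul, mul_smul, inv_smul_eq_iff.mpr hgb.symm, hk, hgc]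
    have h2 : s.zp (a * k - k) • b = b := by
      rw [sub_eq_neg_add, s.zp_add, mul_smul, h1, ← hk, ← mul_smul, ← s.zp_add, neg_add_cancel,
        s.zp_zero, one_smul]
    have h3 : a = 1 := by
      have h4 : (a - 1) * k = 0 := by rw [sub_mul, one_mul]; exact hfree _ b hb h2
      exact sub_eq_zero.mp ((mul_eq_zero.mp h4).resolve_right hk0)
    have h4 : φ ⟨g, hgN⟩ = 1 := Subtype.ext (Units.ext h3)
    obtain ⟨i, hi⟩ := ((isOfFinOrder_of_finite s.z).mem_powers_iff_mem_zpowers).mpr ((hker _).mp h4)
    change s.z ^ i = g at hi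
    rw [← s.zp_natCast] at hi
    rw [← hi] at hgb ⊢
    rw [hfree _ b hb hgb, s.zp_zero]
  have hTinj : ∀ g ∈ Zass.two G o b, ∀ hgN : g ∈ s.norm, φ ⟨g, hgN⟩ = 1 → g = 1 := by
    intro g hg hgN h4
    obtain ⟨i, hi⟩ := ((isOfFinOrder_of_finite s.z).mem_powers_iff_mem_zpowers).mpr ((hker _).mp h4)
    change s.z ^ i = g at hi
    rw [← s.zp_natCast] at hi
    have hgb := ((hTeq g).mp hg).2
    rw [← hi] at hgb ⊢
    rw [hfree _ b hb hgb, s.zp_zero]
  let ψ : Zass.two G o b →* s.auto :=
    φ.comp (Subgroup.inclusion (fun g hg => ((hTeq g).mp hg).1))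
  have hψinj : Function.Injective ψ := by
    rw [← MonoidHom.ker_eq_bot_iff, eq_bot_iff]
    intro g hg
    exact Subgroup.mem_bot.mpr (Subtype.ext (hTinj g.1 g.2 _ hg))
  have hψsurj : Function.Surjective ψ := by
    intro a
    obtain ⟨g, hg⟩ := hsurj a
    have hgo : (g : G) • o = o := (hstab _).mpr g.2
    have hgb : (g : G) • b ≠ o := fun h => hb (smul_left_cancel (g : G) (h.trans hgo.symm))
    obtain ⟨k, hk⟩ := horb _ hgb b hb
    have hkN : s.zp k ∈ s.norm := Subgroup.le_normalizer (pow_mem (Subgroup.mem_zpowers _) _)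
    refine ⟨⟨s.zp k * g, (hTeq _).mpr ⟨mul_mem hkN g.2, by rw [mul_smul, hk]⟩⟩, ?_⟩
    show φ (⟨s.zp k, hkN⟩ * g) = a
    rw [map_mul, (hker _).mpr (pow_mem (Subgroup.mem_zpowers _) _), one_mul, hg]
  have hTcard : Nat.card (Zass.two G o b) = e :=
    Nat.card_congr (Equiv.ofBijective ψ ⟨hψinj, hψsurj⟩)
  have he2 : 2 ≤ e := by omega
  obtain ⟨g₀, hg₀⟩ : ∃ g : Zass.two G o b, g ≠ 1 := by
    have : 1 < Nat.card (Zass.two G o b) := by omega
    obtain ⟨g, h, hgh⟩ := (Finite.one_lt_card_iff_nontrivial.mp this).exists_pair_ne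
    by_cases hg : g = 1
    · exact ⟨h, fun hh => hgh (hg.trans hh.symm)⟩
    · exact ⟨g, hg⟩
  have hfaith : FaithfulSMul G Ω := by
    refine ⟨fun {g h} hgh => ?_⟩
    have hker' : (MulAction.toPermHom G Ω).ker = ⊥ := by
      rcases (MulAction.toPermHom G Ω).normal_ker.eq_bot_or_eq_top with h1 | h1
      · exact h1
      · exfalso
        have h2 : s.z • b = b := by
          have := congrArg (fun σ => σ b) (MonoidHom.mem_ker.mp (h1 ▸ Subgroup.mem_top s.z))
          simpa using this
        exact hb (hzfix b h2)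
    refine (MonoidHom.ker_eq_bot_iff _).mp hker' (Equiv.ext fun Q => ?_)
    simpa using hgh Q
  have hZ : Cfsg.IsZassenhausGroup G Ω := by
    refine ⟨hfaith, htwo, ?_, ⟨g₀, fun h => hg₀ (Subtype.ext h), o, b, hab, g₀.2.1, g₀.2.2⟩, ?_⟩
    · intro g a c d hac hcd had hga hgc hgd
      obtain ⟨k, hka, hkc⟩ := is_two_pretransitive_iff.mp htwo hac hab
      have h1 : k * g * k⁻¹ = 1 := by
        have hfix : ∀ q r : Ω, k • q = r → g • q = q → (k * g * k⁻¹) • r = r := by
          intro q r hq hgq
          rw [← hq, mul_smul, mul_smul, inv_smul_smul, hgq]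
        refine hT3 _ ⟨hfix a o hka hga, hfix c b hkc hgc⟩ (k • d) ?_ ?_ (hfix d _ rfl hgd)
        · rw [← hka]; exact fun h => had (smul_left_cancel k h).symm
        · rw [← hkc]; exact fun h => hcd (smul_left_cancel k h).symm
      exact conj_eq_one_iff.mp h1
    · intro N hN htr
      rcases hN.eq_bot_or_eq_top with h | h
      · exfalso
        subst h
        obtain ⟨u, hu⟩ := htr.exists_smul_eq o b
        have : (u : G) = 1 := Subgroup.mem_bot.mp u.2
        exact hab (by rw [← hu, Subgroup.smul_def, this, one_smul])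
      · subst h
        refine ⟨o, fun h0 => ?_⟩
        have h1 : (⟨s.z, Subgroup.mem_top _⟩ : (⊤ : Subgroup G)) ∈
            MulAction.stabilizer (⊤ : Subgroup G) o := by
          rw [MulAction.mem_stabilizer_iff]
          show s.z • o = o
          rw [← s.zp_one]; exact hzp 1
        replace h1 := h0.le h1
        rw [Subgroup.mem_bot] at h1
        have h2 := s.orderOf_z
        rw [show s.z = 1 from congrArg Subtype.val h1, orderOf_one] at h2
        exact hp.out.ne_one h2.symm
  obtain ⟨U, hU⟩ := Zass.exists_kernel hZ hab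
  have hΩcard : Fintype.card Ω = p + 1 := by rw [← Nat.card_eq_fintype_card, hcard]
  rcases Nat.even_or_odd e with heven | hodd
  · have heven' : Even (Nat.card ↥(Zass.two G o b)) := by rw [hTcard]; exact heven
    obtain ⟨F, i1, i2, hF, -, -, hiso⟩ := ZassNormal.exists_psl hZ hab hU heven'
      (ZassNormal.card_two_mul_two hZ hab hU heven')
    exact ⟨F, i1, i2, by omega, hiso⟩
  · have hodd' : Odd (Nat.card ↥(Zass.two G o b)) := by rw [hTcard]; exact hodd
    have hUc : Nat.card U = p := by have := hU.card; omega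
    have hUcomm : ∀ x y : U, x * y = y * x := by
      haveI : IsCyclic U := isCyclic_of_prime_card hUc
      exact (IsCyclic.commGroup (α := U)).mul_comm
    -- an involution interchanging `o` and `b`
    obtain ⟨w₁, hw₁o, hw₁b⟩ := is_two_pretransitive_iff.mp htwo hab hb
    set d := orderOf (w₁ * w₁) with hd
    have hw₁T : w₁ * w₁ ∈ Zass.two G o b :=
      ⟨by show (w₁ * w₁) • o = o; rw [mul_smul, hw₁o, hw₁b],
       by show (w₁ * w₁) • b = b; rw [mul_smul, hw₁b, hw₁o]⟩
    have hdodd : Odd d := by
      have h1 := Subgroup.orderOf_dvd_natCard _ hw₁T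
      rw [hTcard] at h1
      exact hodd.of_dvd_nat h1
    set w := w₁ ^ d with hwdef
    have hww : w * w = 1 := by
      rw [hwdef, ← (Commute.refl w₁).mul_pow, hd, pow_orderOf_eq_one]
    have hw : w • o = b ∧ w • b = o := by
      obtain ⟨j, hj⟩ := hdodd
      have h1 : w = (w₁ * w₁) ^ j * w₁ := by
        rw [hwdef, hj, pow_succ, pow_mul, sq]
      have h2 : (w₁ * w₁) ^ j ∈ Zass.two G o b := pow_mem hw₁T j
      exact ⟨by rw [h1, mul_smul, hw₁o]; exact h2.2, by rw [h1, mul_smul, hw₁b]; exact h2.1⟩
    have hwi : w⁻¹ = w := inv_eq_of_mul_eq_one_right hww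
    set θ : G → G := fun x => w * x * w with hθ
    have hθT : ∀ x ∈ Zass.two G o b, θ x ∈ Zass.two G o b := fun x hx =>
      ⟨by show (w * x * w) • o = o; rw [mul_smul, mul_smul, hw.1, hx.2, hw.2],
       by show (w * x * w) • b = b; rw [mul_smul, mul_smul, hw.2, hx.1, hw.1]⟩
    have hθθ : ∀ x, θ (θ x) = x := fun x => by
      show w * (w * x * w) * w = x
      calc w * (w * x * w) * w = (w * w) * x * (w * w) := by group
        _ = x := by rw [hww, one_mul, mul_one]
    have hθmul : ∀ x y, θ (x * y) = θ x * θ y := fun x y => by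
      show w * (x * y) * w = (w * x * w) * (w * y * w)
      calc w * (x * y) * w = w * x * 1 * (y * w) := by group
        _ = w * x * (w * w) * (y * w) := by rw [hww]
        _ = _ := by group
    have hTcomm : ∀ x ∈ Zass.two G o b, ∀ y ∈ Zass.two G o b, Commute x y := by
      intro x hx y hy
      have h1 : ψ (⟨x, hx⟩ * ⟨y, hy⟩) = ψ (⟨y, hy⟩ * ⟨x, hx⟩) := by
        rw [map_mul, map_mul, mul_comm]
      exact congrArg Subtype.val (hψinj h1)
    have hTcyc : IsCyclic (Zass.two G o b) := isCyclic_of_injective ψ hψinj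
    -- no nontrivial element of the two-point stabiliser commutes with `w`
    have hnofix : ∀ x ∈ Zass.two G o b, θ x = x → x = 1 := by
      intro x hx hfx
      by_contra hx1
      set r := (orderOf x).minFac with hrdef
      have hxne : orderOf x ≠ 1 := fun h => hx1 (orderOf_eq_one_iff.mp h)
      have hr : r.Prime := Nat.minFac_prime hxne
      haveI := Fact.mk hr
      have hre : r ∣ e := by
        have h1 := Subgroup.orderOf_dvd_natCard _ hx
        rw [hTcard] at h1
        exact (Nat.minFac_dvd _).trans h1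
      have hr2 : r ≠ 2 := fun h => (Nat.not_even_iff_odd.mpr hodd) (even_iff_two_dvd.mpr (h ▸ hre))
      set y := x ^ (orderOf x / r) with hydef
      have hyo : orderOf y = r :=
        orderOf_pow_orderOf_div (isOfFinOrder_of_finite x).orderOf_pos.ne' (Nat.minFac_dvd _)
      have hyT : y ∈ Zass.two G o b := pow_mem hx _
      have hy1 : y ≠ 1 := fun h => hr.ne_one (by rw [← hyo, h, orderOf_one])
      have hyf : θ y = y := by
        have hc : Commute w x := by
          show w * x = x * w
          calc w * x = w * x * (w * w) := by rw [hww, mul_one]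
            _ = θ x * w := by rw [hθ]; group
            _ = x * w := by rw [hfx]
        show w * y * w = y
        rw [(hc.pow_right _).eq, mul_assoc, hww, mul_one]
      set T := Zass.two G o b with hTdef
      have hre' : r ∣ p - 1 := by
        rw [show p - 1 = 2 * e by omega]; exact dvd_mul_of_dvd_right hre 2
      have hrp : ¬ r ∣ p * (p + 1) := by
        intro h
        obtain ⟨c, hc⟩ := hre'
        rcases hr.dvd_mul.mp h with h2 | h2
        · have h3 : r ∣ 1 := by
            have := Nat.dvd_sub h2 (Dvd.intro c hc.symm : r ∣ p - 1)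
            rwa [show p - (p - 1) = 1 by omega] at this
          exact hr.not_dvd_one h3
        · have h3 : r ∣ 2 := by
            have := Nat.dvd_sub h2 (Dvd.intro c hc.symm : r ∣ p - 1)
            rwa [show p + 1 - (p - 1) = 2 by omega] at this
          exact hr2 ((Nat.prime_dvd_prime_iff_eq hr Nat.prime_two).mp h3)
      obtain ⟨S, hS⟩ := (IsPGroup.of_card (n := 1) (G := Subgroup.zpowers (⟨y, hyT⟩ : T)) (by
        rw [Nat.card_zpowers, Subgroup.orderOf_mk, hyo, pow_one])).exists_le_sylow
      have hySmem : (⟨y, hyT⟩ : T) ∈ (S : Subgroup T) := hS (Subgroup.mem_zpowers _)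
      set R := (S : Subgroup T).map T.subtype with hRdef
      have hRT : R ≤ T := Subgroup.map_subtype_le _
      have hyR : y ∈ R := ⟨⟨y, hyT⟩, hySmem, rfl⟩
      have hRc : Nat.card R = r ^ (Nat.card T).factorization r := by
        rw [hRdef, ← Nat.card_congr ((S : Subgroup T).equivMapOfInjective T.subtype
          T.subtype_injective).toEquiv]
        exact S.card_eq_multiplicity
      obtain ⟨Q, hQ⟩ := (IsPGroup.of_card hRc).exists_le_sylow
      have hRQ : R = Q := Subgroup.eq_of_le_of_card_ge hQ (by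
        rw [hRc, Q.card_eq_multiplicity, hTcard, hG,
          show e * p * (p + 1) = e * (p * (p + 1)) by ring,
          Nat.factorization_mul (show e ≠ 0 by omega)
            (Nat.mul_ne_zero hp.out.ne_zero (Nat.succ_ne_zero p)), Finsupp.add_apply,
          Nat.factorization_eq_zero_of_not_dvd hrp, add_zero])
      -- `w` centralises `R`
      have hfix : ∀ u ∈ R, θ u = u := by
        intro u hu
        obtain ⟨n, hn⟩ := (Q.2) ⟨u, hRQ ▸ hu⟩
        have hun : u ^ r ^ n = 1 := congrArg Subtype.val hn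
        set q := u * (θ u)⁻¹ with hqdef
        have hθ1 : θ 1 = 1 := by show w * 1 * w = 1; rw [mul_one, hww]
        have hθpow : ∀ (v : G) (i : ℕ), θ (v ^ i) = θ v ^ i := by
          intro v i
          induction i with
          | zero => simpa using hθ1
          | succ i ih => rw [pow_succ, pow_succ, hθmul, ih]
        have hθinv : ∀ v : G, θ v⁻¹ = (θ v)⁻¹ := fun v =>
          eq_inv_of_mul_eq_one_left (by rw [← hθmul, inv_mul_cancel, hθ1])
        have hqT : q ∈ T := mul_mem (hRT hu) (inv_mem (hθT u (hRT hu)))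
        have hθq : θ q = q⁻¹ := by
          rw [hqdef, hθmul, hθinv, hθθ, mul_inv_rev, inv_inv]
        by_contra hne
        have hq1 : q ≠ 1 := fun h => hne (mul_inv_eq_one.mp h).symm
        have hqn : q ^ r ^ n = 1 := by
          rw [hqdef, (hTcomm _ (hRT hu) _ (inv_mem (hθT u (hRT hu)))).mul_pow, hun, inv_pow,
            ← hθpow, hun, hθ1, inv_one, one_mul]
        obtain ⟨j, -, hj⟩ := (Nat.dvd_prime_pow hr).mp (orderOf_dvd_of_pow_eq_one hqn)
        have hj0 : j ≠ 0 := fun h => hq1 (orderOf_eq_one_iff.mp (by rw [hj, h, pow_zero]))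
        set q' := q ^ (orderOf q / r) with hq'def
        have hq'o : orderOf q' = r :=
          orderOf_pow_orderOf_div (isOfFinOrder_of_finite q).orderOf_pos.ne'
            (by rw [hj]; exact dvd_pow_self r hj0)
        have hq'T : q' ∈ T := pow_mem hqT _
        have hθq' : θ q' = q'⁻¹ := by rw [hq'def, hθpow, hθq, inv_pow]
        have hzeq : Subgroup.zpowers (⟨q', hq'T⟩ : T) = Subgroup.zpowers (⟨y, hyT⟩ : T) :=
          CharCore.subgroup_eq_of_card_eq_of_isCyclic
            (by rw [Nat.card_zpowers, Subgroup.orderOf_mk, hq'o])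
            (by rw [Nat.card_zpowers, Subgroup.orderOf_mk, hyo])
        obtain ⟨i, hi⟩ := ((isOfFinOrder_of_finite (⟨y, hyT⟩ : T)).mem_powers_iff_mem_zpowers).mpr
          (hzeq ▸ Subgroup.mem_zpowers (⟨q', hq'T⟩ : T))
        have hi' : y ^ i = q' := congrArg Subtype.val hi
        have hself : q' = q'⁻¹ := by
          rw [← hθq', ← hi', hθpow, hyf]
        have h2 : orderOf q' ∣ 2 := orderOf_dvd_of_pow_eq_one (by
          rw [sq]; nth_rewrite 2 [hself]; rw [mul_inv_cancel])
        rw [hq'o] at h2
        exact hr2 ((Nat.prime_dvd_prime_iff_eq hr Nat.prime_two).mp h2)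
      have hwcomm : ∀ u ∈ R, Commute w u := fun u hu => by
        show w * u = u * w
        calc w * u = w * u * (w * w) := by rw [hww, mul_one]
          _ = θ u * w := by rw [hθ]; group
          _ = u * w := by rw [hfix u hu]
      -- transfer
      refine not_normalizer_le_centralizer hne (p := r) ?_ Q ?_
      · rw [hG]; exact dvd_mul_of_dvd_left (dvd_mul_of_dvd_left hre _) _
      · rw [← hRQ]
        intro n hn
        have hpt : ∀ c : Ω, (c = o ∨ c = b) → (n • c = o ∨ n • c = b) := by
          intro c hc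
          have h1 : n⁻¹ * y * n ∈ R := by
            have h2 := (Subgroup.mem_normalizer_iff.mp (inv_mem hn) y).mp hyR
            rwa [inv_inv] at h2
          have h2 : (n⁻¹ * y * n) • c = c := by
            rcases hc with rfl | rfl
            · exact (hRT h1).1
            · exact (hRT h1).2
          have h3 : y • (n • c) = n • c := by
            rw [mul_smul, mul_smul, inv_smul_eq_iff] at h2
            exact h2
          by_contra hcon
          rw [not_or] at hcon
          exact hy1 (hT3 y hyT _ hcon.1 hcon.2 h3)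
        rw [Subgroup.mem_centralizer_iff]
        intro u hu
        rcases hpt o (Or.inl rfl) with h1 | h1
        · have h2 : n • b = b := (hpt b (Or.inr rfl)).resolve_left fun h =>
            hb (smul_left_cancel n (h.trans h1.symm))
          exact (hTcomm u (hRT hu) n ⟨h1, h2⟩).eq
        · have h2 : n • b = o := (hpt b (Or.inr rfl)).resolve_right fun h =>
            hb (smul_left_cancel n (h.trans h1.symm))
          have h3 : n * w ∈ T :=
            ⟨by show (n * w) • o = o; rw [mul_smul, hw.1, h2],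
             by show (n * w) • b = b; rw [mul_smul, hw.2, h1]⟩
          have h4 : Commute u (n * w * w) :=
            (hTcomm u (hRT hu) _ h3).mul_right (hwcomm u hu).symm
          rw [mul_assoc, hww, mul_one] at h4
          exact h4.eq
    have hsq : ∀ g : G, g • o = b → g • b = o → g * g = 1 := by
      intro g hgo hgb
      have ht : g * w ∈ Zass.two G o b :=
        ⟨by show (g * w) • o = o; rw [mul_smul, hw.1, hgb],
         by show (g * w) • b = b; rw [mul_smul, hw.2, hgo]⟩
      set t := g * w with htdef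
      have h1 : t * θ t = 1 := by
        refine hnofix _ (mul_mem ht (hθT t ht)) ?_
        rw [hθmul, hθθ]
        exact (hTcomm _ (hθT t ht) _ ht).eq
      calc g * g = g * (w * w) * (g * (w * w)) := by rw [hww, mul_one]
        _ = t * θ t := by rw [htdef, hθ]; group
        _ = 1 := h1
    obtain ⟨F, i1, i2, hF, -, hiso⟩ :=
      ZassNormal.exists_psl_odd hZ hab hU (by rw [hΩcard, hTcard]; omega) hodd' hsq hUcomm
    exact ⟨F, i1, i2, by omega, hiso⟩

end Cfsg.Agent.SmallGroups.Few
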