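import Cfsg.Agent.Lib.SmallGroups.Few.Fix

/-!
# Vanishing on the normalizer without fixed points
-/

set_option autoImplicit false

open scoped ComplexConjugate

namespace Cfsg.Agent.SmallGroups.SelfCent

namespace Setup

variable {G : Type*} [Group G] [Fintype G] {p : ℕ} [hp : Fact p.Prime] (s : Setup G p)

/-- The action of the normalizer on `⟨z⟩`. -/
theorem exists_act (hK : s.K = ⊥) :
    ∃ φ : s.norm →* s.auto, Function.Surjective φ ∧
      (∀ g : s.norm, (g : G) * s.z * (g : G)⁻¹ = s.zp ((φ g : (ZMod p)ˣ) : ZMod p)) ∧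
      ∀ g : s.norm, φ g = 1 ↔ (g : G) ∈ Subgroup.zpowers s.z := by
  classical
  have hmem : ∀ g : s.norm, ∃ a : s.auto,
      (g : G) * s.z * (g : G)⁻¹ = s.zp ((a : (ZMod p)ˣ) : ZMod p) := by
    intro g
    obtain ⟨i, hi⟩ := ((isOfFinOrder_of_finite s.z).mem_powers_iff_mem_zpowers).mpr
      ((Subgroup.mem_normalizer_iff.mp g.2 s.z).mp (Subgroup.mem_zpowers s.z))
    have hi' : (g : G) * s.z * (g : G)⁻¹ = s.zp (i : ZMod p) := by
      rw [s.zp_natCast]; exact hi.symm
    have hn0 : (i : ZMod p) ≠ 0 := by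
      intro h0
      rw [h0, s.zp_zero, conj_eq_one_iff] at hi'
      have := s.orderOf_z
      rw [hi', orderOf_one] at this
      exact hp.out.ne_one this.symm
    exact ⟨⟨Units.mk0 _ hn0, (s.mem_auto_iff _).mpr (isConj_iff.mpr ⟨g, hi'⟩)⟩, hi'⟩
  choose a ha using hmem
  have huniq : ∀ (g : s.norm) (b : s.auto),
      (g : G) * s.z * (g : G)⁻¹ = s.zp ((b : (ZMod p)ˣ) : ZMod p) → a g = b := fun g b hb =>
    Subtype.ext (Units.ext (s.zp_injective ((ha g).symm.trans hb)))
  let φ : s.norm →* s.auto := MonoidHom.mk' a fun g h => huniq _ _ (by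
    have h1 : (h : G) * s.zp 1 * (h : G)⁻¹ = s.zp ((a h : (ZMod p)ˣ) : ZMod p) := by
      rw [s.zp_one]; exact ha h
    have h2 : (g : G) * s.zp 1 * (g : G)⁻¹ = s.zp ((a g : (ZMod p)ˣ) : ZMod p) := by
      rw [s.zp_one]; exact ha g
    have h3 := s.conj_zp_mul h2 ((a h : (ZMod p)ˣ) : ZMod p)
    rw [one_mul, ← h1] at h3
    rw [Subgroup.coe_mul, mul_inv_rev, Subgroup.coe_mul, Units.val_mul, ← h3, s.zp_one]
    group)
  refine ⟨φ, fun b => ?_, ha, fun g => ?_⟩
  · obtain ⟨g, hg⟩ := isConj_iff.mp ((s.mem_auto_iff b.1).mp b.2)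
    have hgN : g ∈ s.norm := by
      rw [Subgroup.mem_normalizer_iff]
      intro w
      have key : (Subgroup.zpowers s.z).map (MulAut.conj g).toMonoidHom = Subgroup.zpowers s.z := by
        refine Subgroup.eq_of_le_of_card_ge ?_ ?_
        · rw [MonoidHom.map_zpowers, Subgroup.zpowers_le]
          change g * s.z * g⁻¹ ∈ _
          rw [hg]; exact pow_mem (Subgroup.mem_zpowers _) _
        · rw [Nat.card_congr ((Subgroup.zpowers s.z).equivMapOfInjective
            (MulAut.conj g).toMonoidHom (MulAut.conj g).injective).toEquiv]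
      constructor
      · intro hw
        have : g * w * g⁻¹ ∈ (Subgroup.zpowers s.z).map (MulAut.conj g).toMonoidHom := ⟨w, hw, rfl⟩
        rw [key] at this
        exact this
      · intro hw
        have hw' : g * w * g⁻¹ ∈ (Subgroup.zpowers s.z).map (MulAut.conj g).toMonoidHom := by
          rw [key]; exact hw
        obtain ⟨y, hy, hyw⟩ := hw'
        exact (MulAut.conj g).injective hyw ▸ hy
    exact ⟨⟨g, hgN⟩, huniq _ _ hg⟩
  · constructor
    · intro h
      have h1 := ha g
      rw [show a g = 1 from h] at h1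
      have hc : (g : G) ∈ Subgroup.centralizer ({s.z} : Set G) := by
        rw [Subgroup.mem_centralizer_singleton_iff]
        have h2 : (g : G) * s.z * (g : G)⁻¹ = s.z := by simpa [s.zp_one] using h1
        exact mul_inv_eq_iff_eq_mul.mp h2
      obtain ⟨k, w, hw, hgw⟩ := s.exists_of_mem_cent hc
      rw [hK, Subgroup.mem_bot] at hw
      rw [hgw, hw, mul_one]
      exact pow_mem (Subgroup.mem_zpowers _) _
    · intro h
      refine huniq g 1 ?_
      obtain ⟨i, hi⟩ := Subgroup.mem_zpowers_iff.mp h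
      rw [← hi]
      simp [s.zp_one]
      group

/-- A character without fixed points of `⟨z⟩` vanishes on the rest of the normalizer. -/
theorem apply_eq_zero_of_mult_zero (hK : s.K = ⊥) (χ : Cfsg.IrrCharacter G)
    (h : s.mult (χ : G → ℂ) 0 = 0) {g : G} (hg : g ∈ s.norm) (hgz : g ∉ Subgroup.zpowers s.z) :
    (χ : G → ℂ) g = 0 := by
  classical
  haveI := Fintype.ofFinite s.norm
  haveI := Fintype.ofFinite s.auto
  obtain ⟨φ, hsurj, hφ, hker⟩ := s.exists_act hK
  have hres : Cfsg.IsCharacter s.norm fun x : s.norm => (χ : G → ℂ) (x : G) :=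
    CharCore.isCharacter_comp (CharCore.irr_isCharacter χ) s.norm.subtype
  obtain ⟨a, ha⟩ := CharCore.IsCharacter.exists_sum hres
  set x : s.norm := ⟨g, hg⟩ with hx
  set j : Cfsg.IrrCharacter s.auto → Cfsg.IrrCharacter s.norm :=
    fun ψ => ⟨(ψ : s.auto → ℂ) ∘ φ, CharCore.isIrrCharacter_comp_surjective ψ.2 φ hsurj⟩ with hj
  have hjinj : Function.Injective j := fun ψ₁ ψ₂ h12 => by
    apply Subtype.ext
    exact hsurj.injective_comp_right (congrArg Subtype.val h12)
  set S : Finset (Cfsg.IrrCharacter s.norm) := Finset.univ.image j with hS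
  have hz : ∀ k : ZMod p, s.zp k ∈ s.norm := fun k =>
    Subgroup.le_normalizer (pow_mem (Subgroup.mem_zpowers s.z) _)
  -- inflated constituents do not occur
  have hin : ∀ θ ∈ S, a θ = 0 := by
    have hk : s.kset = {1} := by ext w; simp [s.mem_kset, hK]
    have hp0 : (p : ℂ) ≠ 0 := Nat.cast_ne_zero.mpr hp.out.ne_zero
    have hsum : ∑ k : ZMod p, (χ : G → ℂ) (s.zp k) = 0 := by
      have h' : (p : ℂ) * s.mult (χ : G → ℂ) 0 = 0 := by rw [h, mul_zero]
      rw [mult, mul_inv_cancel_left₀ hp0] at h'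
      simpa [phi, hk] using h'
    let ι : Multiplicative (ZMod p) →* s.norm :=
      { toFun := fun k => ⟨s.zp k.toAdd, hz _⟩
        map_one' := Subtype.ext (by simp [s.zp_zero])
        map_mul' := fun a b => Subtype.ext (by simp [s.zp_add]) }
    have hq : ∀ θ : Cfsg.IrrCharacter s.norm, ∃ q : ℕ,
        ∑ k : ZMod p, (θ : s.norm → ℂ) ⟨s.zp k, hz k⟩ = (p : ℂ) * q := by
      intro θ
      obtain ⟨q, hq⟩ := CharCore.IsCharacter.exists_classInner_eq_natCast
        (CharCore.isCharacter_comp (CharCore.irr_isCharacter θ) ι)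
        (CharCore.IsIrrCharacter.isCharacter (CharCore.isIrrCharacter_one
          (G := Multiplicative (ZMod p))))
      refine ⟨q, ?_⟩
      rw [← hq, Cfsg.classInner, Nat.card_congr Multiplicative.toAdd, Nat.card_zmod,
        mul_inv_cancel_left₀ hp0]
      refine Fintype.sum_equiv Multiplicative.ofAdd _ _ fun k => ?_
      simp only [Pi.one_apply, map_one, mul_one, Function.comp_apply]
      rfl
    choose q hq using hq
    have hexp : ∀ k : ZMod p, (χ : G → ℂ) (s.zp k) =
        ∑ θ, (a θ : ℂ) * (θ : s.norm → ℂ) ⟨s.zp k, hz k⟩ := fun k => by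
      have := congrFun ha ⟨s.zp k, hz k⟩
      simpa using this
    rw [Finset.sum_congr rfl fun k _ => hexp k, Finset.sum_comm,
      Finset.sum_congr rfl fun θ _ => by rw [← Finset.mul_sum, hq θ]] at hsum
    have hn : ∑ θ, a θ * q θ = 0 := by
      have h1 : ((∑ θ, a θ * q θ : ℕ) : ℂ) * p = 0 := by
        rw [← hsum]
        push_cast
        rw [Finset.sum_mul]
        exact Finset.sum_congr rfl fun θ _ => by ring
      exact_mod_cast (mul_eq_zero.mp h1).resolve_right hp0
    intro θ hθ
    obtain ⟨ψ, -, rfl⟩ := Finset.mem_image.mp hθ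
    have hqj : q (j ψ) ≠ 0 := by
      intro h0
      have h1 := hq (j ψ)
      rw [h0, Nat.cast_zero, mul_zero] at h1
      have h2 : ∀ k : ZMod p, φ ⟨s.zp k, hz k⟩ = 1 := fun k =>
        (hker _).mpr (pow_mem (Subgroup.mem_zpowers _) _)
      simp only [hj, Function.comp_apply, h2, Finset.sum_const, Finset.card_univ, ZMod.card,
        nsmul_eq_mul, mul_eq_zero] at h1
      rcases h1 with h1 | h1
      · exact hp0 h1
      · rw [(deg_spec ψ).2.2] at h1
        exact (deg_spec ψ).1.ne' (by exact_mod_cast h1)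
    rcases mul_eq_zero.mp (Finset.sum_eq_zero_iff.mp hn (j ψ) (Finset.mem_univ _)) with h1 | h1
    · exact h1
    · exact absurd h1 hqj
  -- the others vanish at `g`
  have hout : ∀ θ ∉ S, (θ : s.norm → ℂ) x = 0 := by
    have htot := CharCore.sum_apply_mul_conj x x
    rw [if_pos (IsConj.refl x)] at htot
    have hR : ∑ θ : Cfsg.IrrCharacter s.norm, Complex.normSq ((θ : s.norm → ℂ) x) =
        (Nat.card (Subgroup.centralizer ({x} : Set s.norm)) : ℝ) := by
      apply Complex.ofReal_injective
      push_cast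
      rw [← htot]
      exact Finset.sum_congr rfl fun θ _ => (Complex.mul_conj _).symm
    have hSsum : ∑ θ ∈ S, Complex.normSq ((θ : s.norm → ℂ) x) = (Nat.card s.auto : ℝ) := by
      apply Complex.ofReal_injective
      push_cast
      rw [hS, Finset.sum_image fun a _ b _ hab => hjinj hab]
      have h1 := CharCore.sum_apply_mul_conj (φ x) (φ x)
      have hcen : Subgroup.centralizer ({φ x} : Set s.auto) = ⊤ := by
        refine eq_top_iff.mpr fun b _ => ?_
        rw [Subgroup.mem_centralizer_singleton_iff, mul_comm]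
      rw [if_pos (IsConj.refl _), hcen, Subgroup.card_top] at h1
      rw [← h1]
      exact Finset.sum_congr rfl fun θ _ => (Complex.mul_conj _).symm
    have hle : Nat.card (Subgroup.centralizer ({x} : Set s.norm)) ≤ Nat.card s.auto := by
      refine Nat.card_le_card_of_injective
        (fun c : Subgroup.centralizer ({x} : Set s.norm) => φ c.1) fun c d hcd => ?_
      have hcd' : φ (d.1⁻¹ * c.1) = 1 := by
        rw [map_mul, map_inv]; simp only at hcd; rw [hcd, inv_mul_cancel]
      have hmem := (hker _).mp hcd'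
      have hcm : Commute ((d.1⁻¹ * c.1 : s.norm) : G) g := by
        have h1 : Commute c.1 x := Subgroup.mem_centralizer_singleton_iff.mp c.2
        have h2 : Commute d.1 x := Subgroup.mem_centralizer_singleton_iff.mp d.2
        exact congrArg Subtype.val ((h2.inv_left.mul_left h1).eq)
      set u := ((d.1⁻¹ * c.1 : s.norm) : G) with hu
      by_cases hu1 : u = 1
      · apply Subtype.ext
        exact (inv_mul_eq_one.mp (Subtype.ext hu1)).symm
      · exfalso
        obtain ⟨i, hi⟩ := ((isOfFinOrder_of_finite s.z).mem_powers_iff_mem_zpowers).mpr hmem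
        have hui : u = s.zp (i : ZMod p) := by rw [s.zp_natCast]; exact hi.symm
        have hi0 : (i : ZMod p) ≠ 0 := fun h0 => hu1 (by rw [hui, h0, s.zp_zero])
        have hgC : g ∈ Subgroup.centralizer ({s.z} : Set G) := by
          rw [← s.centralizer_zp hi0, ← hui, Subgroup.mem_centralizer_singleton_iff]
          exact hcm.eq.symm
        obtain ⟨k, w, hw, hgw⟩ := s.exists_of_mem_cent hgC
        rw [hK, Subgroup.mem_bot] at hw
        exact hgz (hgw ▸ by rw [hw, mul_one]; exact pow_mem (Subgroup.mem_zpowers _) _)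
    intro θ hθ
    have h1 : ∑ θ ∈ Finset.univ \ S, Complex.normSq ((θ : s.norm → ℂ) x) ≤ 0 := by
      have h2 := Finset.sum_sdiff (Finset.subset_univ S)
        (f := fun θ : Cfsg.IrrCharacter s.norm => Complex.normSq ((θ : s.norm → ℂ) x))
      rw [hR, hSsum] at h2
      have : (Nat.card (Subgroup.centralizer ({x} : Set s.norm)) : ℝ) ≤ Nat.card s.auto := by
        exact_mod_cast hle
      linarith
    have h3 := (Finset.sum_eq_zero_iff_of_nonneg (fun θ _ => Complex.normSq_nonneg _)).mp
      (le_antisymm h1 (Finset.sum_nonneg fun θ _ => Complex.normSq_nonneg _)) θ (by simp [hθ])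
    exact Complex.normSq_eq_zero.mp h3
  have hval := congrFun ha x
  simp only [Finset.sum_apply, Pi.smul_apply, smul_eq_mul] at hval
  change (χ : G → ℂ) g = _ at hval
  rw [hval]
  refine Finset.sum_eq_zero fun θ _ => ?_
  by_cases hθ : θ ∈ S
  · simp [hin θ hθ]
  · rw [hout θ hθ, mul_zero]

end Setup

end Cfsg.Agent.SmallGroups.SelfCent
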