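import Cfsg.Agent.Lib.SmallGroups.Few.Main

/-!
# A large prime divisor has a self-centralising subgroup
-/

set_option autoImplicit false

namespace Cfsg.Agent.SmallGroups.Few

open SelfCent SelfCent.Setup Subgroup

variable {G : Type*} [Group G] [Fintype G] {p : ℕ} [hp : Fact p.Prime]

/-- A constant vector with value `1` and degree `p - 1` puts `K` in the kernel. -/
theorem apply_K_of_vec_one (s : Setup G p) (χ : Cfsg.IrrCharacter G) (hu : ∀ o, s.vecO χ o = 1)
    (hd : deg χ + 1 = p) {w : G} (hw : w ∈ s.K) : (χ : G → ℂ) w = (deg χ : ℂ) := by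
  classical
  obtain ⟨a, ha⟩ := s.mult_eq_natCast (CharCore.irr_isCharacter χ) 0
  have hm : ∀ r : ZMod p, r ≠ 0 → s.mult (χ : G → ℂ) r = (a : ℂ) + 1 := by
    intro r hr
    have h1 := s.vec_eq_vecO χ (Units.mk0 r hr)
    rw [Units.val_mk0, hu] at h1
    have h2 := s.vec_spec χ r
    rw [h1, vecC_eq_sub, ha] at h2
    push_cast at h2
    linear_combination -h2
  have h0 : s.phi (χ : G → ℂ) 0 = (p : ℂ) * a + ((p : ℂ) - 1) := by
    rw [s.phi_eq_sum_mult, ← Finset.add_sum_erase _ _ (Finset.mem_univ (0 : ZMod p)),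
      Finset.sum_congr rfl (g := fun _ => (a : ℂ) + 1) (fun r hr => by
        rw [hm r (Finset.ne_of_mem_erase hr), mul_zero, AddChar.map_zero_eq_one, mul_one]),
      mul_zero, AddChar.map_zero_eq_one, mul_one, ha, Finset.sum_const,
      Finset.card_erase_of_mem (Finset.mem_univ _), Finset.card_univ, ZMod.card, nsmul_eq_mul,
      Nat.cast_sub hp.out.one_le]
    ring
  have hsum : ∑ w ∈ s.kset, ((χ : G → ℂ) w).re = (s.kset.card : ℝ) * ((p : ℝ) * a + ((p : ℝ) - 1)) := by
    have h1 : ∑ w ∈ s.kset, (χ : G → ℂ) w = (s.kset.card : ℂ) * ((p : ℂ) * a + ((p : ℂ) - 1)) := by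
      rw [← h0, Setup.phi, ← mul_assoc, mul_inv_cancel₀ s.card_kset_ne_zero, one_mul]
      simp [s.zp_zero]
    have h2 := congrArg Complex.re h1
    rw [Complex.re_sum] at h2
    rw [h2]
    simp
  have hle : ∀ g : G, ‖(χ : G → ℂ) g‖ ≤ (deg χ : ℝ) := fun g => by
    have := CharCore.IsCharacter.norm_apply_le (CharCore.irr_isCharacter χ) g
    simpa [(deg_spec χ).2.2] using this
  have hdR : (deg χ : ℝ) = (p : ℝ) - 1 := by
    have : ((deg χ + 1 : ℕ) : ℝ) = (p : ℝ) := by rw [hd]
    push_cast at this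
    linarith
  have hnn : ∀ v ∈ s.kset, 0 ≤ (deg χ : ℝ) - ((χ : G → ℂ) v).re := fun v _ => by
    linarith [Complex.re_le_norm ((χ : G → ℂ) v), hle v]
  have hz : ∑ v ∈ s.kset, ((deg χ : ℝ) - ((χ : G → ℂ) v).re) = 0 := by
    apply le_antisymm _ (Finset.sum_nonneg hnn)
    rw [Finset.sum_sub_distrib, Finset.sum_const, nsmul_eq_mul, hsum, hdR]
    have : (0 : ℝ) ≤ (s.kset.card : ℝ) * ((p : ℝ) * a) := by positivity
    linarith
  have h3 := (Finset.sum_eq_zero_iff_of_nonneg hnn).mp hz w (s.mem_kset.mpr hw)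
  have h4 := hle w
  have h5 : ((χ : G → ℂ) w).im = 0 := by
    have h6 : ‖(χ : G → ℂ) w‖ ^ 2 ≤ (deg χ : ℝ) ^ 2 := pow_le_pow_left₀ (norm_nonneg _) h4 2
    rw [Complex.sq_norm, Complex.normSq_apply] at h6
    have h7 : ((χ : G → ℂ) w).re = (deg χ : ℝ) := by linarith
    rw [h7] at h6
    nlinarith [mul_self_nonneg ((χ : G → ℂ) w).im]
  exact Complex.ext (by simpa using (by linarith : ((χ : G → ℂ) w).re = (deg χ : ℝ)))
    (by simpa using h5)

/-- If `|G| < p ^ 3` then `C(z) = ⟨z⟩`. -/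
theorem K_eq_bot [IsSimpleGroup G] (hne : ¬ IsMulCommutative G) (s : Setup G p) {n : ℕ}
    (hidx : ¬ p ∣ (zpowers s.z).index) (hn1 : 1 ≤ n)
    (hG : Nat.card G = Nat.card s.auto * (p * Nat.card s.K) * (n * p + 1))
    (hbig : Nat.card G < p ^ 3) : s.K = ⊥ := by
  classical
  by_contra hK
  haveI := Fintype.ofFinite s.Orb
  set e := Nat.card s.auto with hedef
  set t := Nat.card s.Orb with htdef
  set k := Nat.card s.K with hkdef
  have hp' : p.Prime := Fact.out
  have hk : 2 ≤ k := by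
    have h1 : k ≠ 1 := fun h => hK (Subgroup.card_eq_one.mp h)
    have h2 : 0 < k := Nat.card_pos
    omega
  have he : 2 ≤ e := two_le_auto hne s hidx
  have het : t * e = p - 1 := s.card_orb_mul
  have htpos : 0 < t := Nat.card_pos
  have hep : e < p := by
    have : e ≤ t * e := Nat.le_mul_of_pos_left _ htpos
    have := hp'.one_le
    omega
  -- `e k (n p + 1) < p²`
  have hlt : e * k * (n * p + 1) < p * p := by
    refine Nat.lt_of_mul_lt_mul_left (a := p) ?_
    calc p * (e * k * (n * p + 1)) = Nat.card G := by rw [hG]; ring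
      _ < p ^ 3 := hbig
      _ = p * (p * p) := by ring
  have hek : e * k < p := by
    by_contra h
    have h1 : p * (n * p + 1) ≤ e * k * (n * p + 1) := Nat.mul_le_mul_right _ (not_lt.mp h)
    have h2 : p ≤ n * p + 1 := by
      have := Nat.le_mul_of_pos_left p (show 0 < n by omega)
      omega
    have h3 : p * p ≤ p * (n * p + 1) := Nat.mul_le_mul_left p h2
    omega
  have h4k : 4 ≤ e * k := Nat.mul_le_mul he hk
  have hn : 4 * n < p := by
    by_contra h
    have h1 : 4 * (n * p + 1) ≤ e * k * (n * p + 1) := Nat.mul_le_mul_right _ h4k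
    have h2 : p * p ≤ 4 * n * p := Nat.mul_le_mul_right p (not_lt.mp h)
    linarith
  obtain ⟨M, hM⟩ := BC86.exists_isPModular hp'
  obtain ⟨D, hd, hfB, -⟩ := s.exists_data_zero hM hidx (by omega)
  obtain ⟨R, hR1, hR2, hR3, hR4, hb, hR5⟩ := D.exists_rest hM hidx hd hfB
  have hcidx : (centralizer ({s.z} : Set G)).index = e * (n * p + 1) := by
    have h := Subgroup.card_mul_index (centralizer ({s.z} : Set G))
    rw [s.card_cent, hG] at h
    refine Nat.eq_of_mul_eq_mul_left (show 0 < p * k from Nat.mul_pos hp'.pos (by omega)) ?_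
    rw [h]; ring
  have hetZ : (e : ℤ) * t + 1 = p := by
    have : e * t + 1 = p := by rw [mul_comm, het]; have := hp'.one_le; omega
    exact_mod_cast this
  have heZ : (0 : ℤ) < e := by exact_mod_cast (show 0 < e by omega)
  have htZ : (0 : ℤ) < t := by exact_mod_cast htpos
  have hnZ : (4 : ℤ) * n < p := by exact_mod_cast hn
  have hepZ : (e : ℤ) < p := by exact_mod_cast hep
  have hpZ : (p : ℤ) ≠ 0 := by exact_mod_cast hp'.ne_zero
  have hltZ : (e : ℤ) * k * (n * p + 1) < p * p := by exact_mod_cast hlt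
  have hkZ : (2 : ℤ) ≤ k := by exact_mod_cast hk
  have hzp1 : ∀ w ∈ s.K, ∀ χ ∈ R, (χ : G → ℂ) (s.zp 1 * w) = (χ : G → ℂ) s.z := fun w hw χ hχ => by
    rw [s.apply_zp_mul hM (hR4 χ hχ).2.1 one_ne_zero hw, s.zp_one]
  have hvec : ∀ χ ∈ R, ∀ o, s.vecO χ o = D.c χ := fun χ hχ o => by
    rw [D.vec_eq, if_neg (fun h => hR3 o (by rw [← h]; exact hχ)), add_zero]
  have hval : ∀ χ ∈ R, (χ : G → ℂ) s.z = ((-D.c χ : ℤ) : ℂ) := by
    intro χ hχ
    have h := s.phi_of_const χ (D.c χ) (hvec χ hχ) (k := 1) one_ne_zero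
    rw [Setup.phi, Finset.sum_congr rfl (fun w hw => hzp1 w (s.mem_kset.mp hw) χ hχ),
      Finset.sum_const, nsmul_eq_mul, ← mul_assoc, inv_mul_cancel₀ s.card_kset_ne_zero,
      one_mul] at h
    rw [h]; push_cast; ring
  have hdegR : ∀ χ ∈ R, (D.c χ = -1 ∧ deg χ = n * p + 1) ∨ (D.c χ = 1 ∧ deg χ + 1 = p) := by
    intro χ hχ
    obtain ⟨hc, -, hmod⟩ := hR4 χ hχ
    have hne1 : deg χ ≠ 1 := fun h => hR2 ((deg_eq_one_iff hne χ).mp h ▸ hχ)
    have hdpos := (deg_spec χ).1
    have hdvd : (deg χ : ℤ) ∣ (e * (n * p + 1) : ℕ) := by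
      have h := deg_dvd_index_mul χ (hval χ hχ)
      rw [hcidx] at h
      rcases hc with r | r <;> rw [r] at h <;> simpa using h
    have hdle : (deg χ : ℤ) ≤ (e : ℤ) * (n * p + 1) := by
      have := Int.le_of_dvd (by positivity) hdvd
      simpa using this
    obtain ⟨q, hq⟩ := hdvd
    push_cast at hq
    have hqpos : 0 < q := by
      by_contra hq0
      have : (deg χ : ℤ) * q ≤ 0 := mul_nonpos_of_nonneg_of_nonpos (by positivity) (by omega)
      have : (0 : ℤ) < e * (n * p + 1) := by positivity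
      omega
    obtain ⟨x, hx⟩ := hmod
    rcases hc with hc | hc
    · right
      refine ⟨hc, ?_⟩
      rw [hc] at hx
      have hdx : (deg χ : ℤ) = p * x - 1 := by linarith
      have hx1 : 1 ≤ x := by
        by_contra hx0
        have : (p : ℤ) * x ≤ 0 := mul_nonpos_of_nonneg_of_nonpos (by positivity) (by omega)
        omega
      have hxp : x < p := by
        by_contra hxp
        have h1 : (p : ℤ) * p ≤ p * x := mul_le_mul_of_nonneg_left (by omega) (by omega)
        have h2 : 2 * ((e : ℤ) * (n * p + 1)) ≤ (e : ℤ) * k * (n * p + 1) := by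
          have : 0 ≤ ((k : ℤ) - 2) * ((e : ℤ) * (n * p + 1)) :=
            mul_nonneg (by omega) (by positivity)
          linarith
        nlinarith
      obtain ⟨v, hv⟩ : (p : ℤ) ∣ q + e := ⟨q * x - e * n, by rw [hdx] at hq; linear_combination hq⟩
      have hqv : q = p * v - e := by linarith
      have heq : (e : ℤ) * (n + x) = v * (x * p - 1) := by
        apply mul_left_cancel₀ hpZ
        rw [hdx, hqv] at hq
        linear_combination hq
      have hv1 : 1 ≤ v := by
        by_contra hv0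
        have : (p : ℤ) * v ≤ 0 := mul_nonpos_of_nonneg_of_nonpos (by positivity) (by omega)
        omega
      rcases lt_or_eq_of_le hx1 with hx2 | hx2
      · have := le_of_minus heZ htZ hetZ (show 2 ≤ x by omega) hxp hv1 heq
        omega
      · rw [← hx2, mul_one] at hdx
        omega
    · left
      refine ⟨hc, ?_⟩
      rw [hc] at hx
      have hdx : (deg χ : ℤ) = p * x + 1 := by linarith
      have hx1 : 1 ≤ x := by
        by_contra hx0
        have : (p : ℤ) * x ≤ 0 := mul_nonpos_of_nonneg_of_nonpos (by positivity) (by omega)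
        omega
      obtain ⟨v, hv⟩ : (p : ℤ) ∣ q - e := ⟨e * n - q * x, by rw [hdx] at hq; linear_combination -hq⟩
      have hqv : q = p * v + e := by linarith
      have heq : (e : ℤ) * n = e * x + v * (x * p + 1) := by
        apply mul_left_cancel₀ hpZ
        rw [hdx, hqv] at hq
        linear_combination hq
      have hv0 : 0 ≤ v := by
        by_contra hv0
        have : (p : ℤ) * v ≤ p * (-1) := mul_le_mul_of_nonneg_left (by omega) (by positivity)
        omega
      rcases lt_or_eq_of_le hv0 with hv1 | hv1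
      · have := le_of_plus heZ htZ hetZ hx1 (show 1 ≤ v by omega) heq
        omega
      · rw [← hv1, zero_mul, add_zero] at heq
        have hxn : x = n := (mul_left_cancel₀ heZ.ne' heq).symm
        rw [hxn] at hdx
        have : (deg χ : ℤ) = ((n * p + 1 : ℕ) : ℤ) := by push_cast; linarith
        exact_mod_cast this
  -- every further character has coefficient `-1`
  have hall : ∀ χ ∈ R, D.c χ = -1 ∧ deg χ = n * p + 1 := by
    intro χ hχ
    refine (hdegR χ hχ).resolve_right fun h => ?_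
    obtain ⟨w, hw, hw1⟩ : ∃ w ∈ s.K, w ≠ 1 := (s.K.bot_or_exists_ne_one).resolve_left hK
    have h1 := apply_K_of_vec_one s χ (fun o => by rw [hvec χ hχ o, h.1]) h.2 hw
    exact value_ne_deg (fun h2 => hR2 (h2 ▸ hχ)) hw1 h1
  -- the exceptional degree
  have hsum := D.degree_eq
  have hsplit : ∑ χ : Cfsg.IrrCharacter G, (deg χ : ℤ) * D.c χ =
      -1 - ((e : ℤ) - 1) * (n * p + 1) := by
    have hsub : ∑ χ ∈ insert triv R, (deg χ : ℤ) * D.c χ =
        ∑ χ : Cfsg.IrrCharacter G, (deg χ : ℤ) * D.c χ :=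
      Finset.sum_subset (Finset.subset_univ _) fun χ _ hχ => by
        rw [Finset.mem_insert, not_or] at hχ
        rw [hR5 χ hχ.1 hχ.2, mul_zero]
    rw [← hsub, Finset.sum_insert hR2, D.c_triv, deg_triv,
      Finset.sum_congr rfl (g := fun _ => -((n : ℤ) * p + 1)) (fun χ hχ => by
        rw [(hall χ hχ).1, (hall χ hχ).2]; push_cast; ring), Finset.sum_const, nsmul_eq_mul]
    have : (R.card : ℤ) = (e : ℤ) - 1 := by
      have : ((R.card + 1 : ℕ) : ℤ) = (e : ℤ) := by rw [hR1]
      push_cast at this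
      linarith
    rw [this]
    push_cast
    ring
  rw [hsplit] at hsum
  have hpos : (1 : ℤ) + (n * p + 1) ≤ 1 + ((e : ℤ) - 1) * (n * p + 1) := by
    have : 0 ≤ ((e : ℤ) - 2) * (n * p + 1) := mul_nonneg (by omega) (by positivity)
    linarith
  have hnp : (p : ℤ) ≤ n * p := le_mul_of_one_le_left (by omega) (by omega)
  have heps : D.eps = 1 := by
    refine D.eps_eq.resolve_right fun r => ?_
    rw [r] at hsum
    have : (0 : ℤ) ≤ (D.b : ℤ) := by positivity
    omega
  rw [heps, one_mul] at hsum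
  rw [heps, mul_one] at hb
  have hpb : ¬ p ∣ D.b := by
    intro h
    have h1 : (p : ℤ) ∣ (e : ℤ) := by
      have := dvd_sub (Int.natCast_dvd_natCast.mpr h) hb
      rwa [sub_sub_cancel] at this
    have := Int.le_of_dvd heZ h1
    omega
  obtain ⟨o⟩ : Nonempty s.Orb := inferInstance
  have hbG : D.b ∣ (e * k) * p * (n * p + 1) := by
    have := D.deg_f o ▸ (deg_spec (D.f o)).2.1
    rw [hG] at this
    convert this using 1
    ring
  have hco : Nat.Coprime D.b (n * p + 1) := by
    refine Nat.dvd_one.mp ?_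
    have h1 : ((Nat.gcd D.b (n * p + 1) : ℕ) : ℤ) ∣ (D.b : ℤ) :=
      Int.natCast_dvd_natCast.mpr (Nat.gcd_dvd_left _ _)
    have h2 : ((Nat.gcd D.b (n * p + 1) : ℕ) : ℤ) ∣ ((n : ℤ) * p + 1) := by
      exact_mod_cast Nat.gcd_dvd_right D.b (n * p + 1)
    have h3 := dvd_sub h1 (h2.mul_left ((e : ℤ) - 1))
    rw [show (D.b : ℤ) - ((e : ℤ) - 1) * ((n : ℤ) * p + 1) = 1 by linarith] at h3
    exact Int.natCast_dvd_natCast.mp (by simpa using h3)
  have h1 : D.b ∣ e * k :=
    ((hp'.coprime_iff_not_dvd.mpr hpb).symm).dvd_of_dvd_mul_right (hco.dvd_of_dvd_mul_right hbG)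
  have h2 := Nat.le_of_dvd (by omega) h1
  omega

end Cfsg.Agent.SmallGroups.Few
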