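import Cfsg.Agent.Lib.SmallGroups.SelfCent.Principal

/-!
# Normalised principal block data for every number of exceptional characters
-/

set_option autoImplicit false

namespace Cfsg.Agent.SmallGroups.SelfCent

open BlocksDefect BlocksCore

variable {G : Type*} [Group G] [Fintype G] {p : ℕ} [hp : Fact p.Prime] {M : Ideal Cfsg.AlgInt}

namespace Setup

variable (s : Setup G p) [Fintype s.Orb] [DecidableEq (Cfsg.IrrCharacter G)]

/-- Data with `d = 0` and exceptional characters in the principal block has exactly `e - 1`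
further nontrivial characters, with coefficient `±1`. -/
theorem Data.exists_rest {s : Setup G p} [Fintype s.Orb] (D : s.Data)
    (hM : Cfsg.IsPModular p M) (hidx : ¬ p ∣ (Subgroup.zpowers s.z).index) (hd : D.d = 0)
    (hfB : ∀ o, D.f o ∈ Cfsg.principalBlock M G) :
    ∃ R : Finset (Cfsg.IrrCharacter G),
      R.card + 1 = Nat.card s.auto ∧ triv ∉ R ∧ (∀ o, D.f o ∉ R) ∧
      (∀ χ ∈ R, (D.c χ = 1 ∨ D.c χ = -1) ∧ χ ∈ Cfsg.principalBlock M G ∧
        (p : ℤ) ∣ (deg χ : ℤ) + D.c χ) ∧
      (p : ℤ) ∣ (D.b : ℤ) - (Nat.card s.auto : ℤ) * D.eps ∧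
      (∀ χ, χ ≠ triv → χ ∉ R → D.c χ = 0) := by
  classical
  have := BlocksCore.isPrime hM
  letI : Field (BlocksDefect.Res M) := Ideal.Quotient.field _
  haveI : CharP (BlocksDefect.Res M) p := BlocksDefect.charP_res hM
  haveI : CharP (AlgebraicClosure (BlocksDefect.Res M)) p :=
    charP_of_injective_ringHom
      (algebraMap (BlocksDefect.Res M) (AlgebraicClosure (BlocksDefect.Res M))).injective p
  have hge := BlocksCore.CyclicRank.card_ge hM s hidx (AlgebraicClosure (BlocksDefect.Res M))
    (algebraMap _ _)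
  set B : Finset (Cfsg.IrrCharacter G) :=
    Finset.univ.filter (· ∈ Cfsg.principalBlock M G) with hB
  have hBcard : Nat.card (Cfsg.principalBlock M G) = B.card := by
    rw [Nat.card_eq_fintype_card, Fintype.card_subtype]
  rw [hBcard] at hge
  set F := Finset.univ.image D.f with hF
  have hFB : F ⊆ B := fun χ hχ => by
    obtain ⟨o, -, rfl⟩ := Finset.mem_image.mp hχ
    simpa [hB] using hfB o
  have hc : ∀ χ ∈ B \ F, 1 ≤ D.c χ * D.c χ := by
    intro χ hχ
    obtain ⟨hχB, hχF⟩ := Finset.mem_sdiff.mp hχ
    obtain ⟨o, ho⟩ := BlocksCore.CyclicBlock.exists_vecO_ne_zero s hM hidx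
      (χ := χ) (by simpa [hB] using hχB)
    rw [D.vec_eq, if_neg (fun (h : χ = D.f o) =>
      hχF (h ▸ Finset.mem_image_of_mem D.f (Finset.mem_univ o))),
      add_zero] at ho
    exact mul_self_pos.mpr ho
  have hFcard : F.card = Nat.card s.Orb := by
    rw [hF, Finset.card_image_of_injective _ D.inj, Finset.card_univ, Nat.card_eq_fintype_card]
  have hn := D.norm_eq
  rw [hd, mul_zero, add_zero] at hn
  have hle : ∀ S : Finset (Cfsg.IrrCharacter G), ∑ y ∈ S, D.c y * D.c y ≤
      (Nat.card s.auto : ℤ) := fun S =>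
    hn ▸ Finset.sum_le_univ_sum_of_nonneg fun χ => mul_self_nonneg _
  have hBFeq : (B \ F).card = Nat.card s.auto := by
    have h1 : ((B \ F).card : ℤ) ≤ ∑ χ ∈ B \ F, D.c χ * D.c χ := by
      simpa using Finset.card_nsmul_le_sum (B \ F) (fun χ => D.c χ * D.c χ) 1 hc
    have h2 := hle (B \ F)
    have h3 : Nat.card s.auto ≤ (B \ F).card := by
      rw [Finset.card_sdiff_of_subset hFB, hFcard]
      omega
    have : ((B \ F).card : ℤ) ≤ (Nat.card s.auto : ℤ) := h1.trans h2
    omega
  have hone : ∀ χ ∈ B \ F, D.c χ * D.c χ = 1 := by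
    intro χ hχ
    have h7 : ∑ y ∈ B \ F, (D.c y * D.c y - 1) = 0 := by
      apply le_antisymm _ (Finset.sum_nonneg fun y hy => by linarith [hc y hy])
      rw [Finset.sum_sub_distrib, Finset.sum_const, nsmul_one, hBFeq]
      linarith [hle (B \ F)]
    have h8 := (Finset.sum_eq_zero_iff_of_nonneg fun y hy => by linarith [hc y hy]).mp h7 χ hχ
    linarith
  have hother : ∀ χ, χ ∉ B \ F → D.c χ = 0 := by
    intro χ hχ
    have h1 := hle (insert χ (B \ F))
    rw [Finset.sum_insert hχ, Finset.sum_congr rfl hone, Finset.sum_const, nsmul_one, hBFeq] at h1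
    exact mul_self_eq_zero.mp (le_antisymm (by linarith) (mul_self_nonneg _))
  have htriv : (triv : Cfsg.IrrCharacter G) ∈ B \ F := by
    by_contra h
    have := hother _ h
    rw [D.c_triv] at this
    omega
  refine ⟨(B \ F).erase triv, ?_, Finset.notMem_erase _ _, fun o h => ?_, fun χ hχ => ?_,
    ?_, fun χ h1 h2 => ?_⟩
  · rw [Finset.card_erase_add_one htriv, hBFeq]
  · exact (Finset.mem_sdiff.mp (Finset.mem_of_mem_erase h)).2
      (Finset.mem_image_of_mem D.f (Finset.mem_univ o))
  · have hχ' := Finset.mem_of_mem_erase hχ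
    have hχB : χ ∈ Cfsg.principalBlock M G := by
      simpa [hB] using (Finset.mem_sdiff.mp hχ').1
    have hex : ∀ o, χ ≠ D.f o := fun o h => (Finset.mem_sdiff.mp hχ').2
      (h ▸ Finset.mem_image_of_mem D.f (Finset.mem_univ o))
    refine ⟨mul_self_eq_one_iff.mp (hone χ hχ'), hχB, ?_⟩
    have h := BlocksCore.CyclicBlock.charDegree_modEq s hM hχB
    rw [D.sum_vec, if_neg (fun ⟨o, ho⟩ => hex o ho), add_zero, ← deg_eq_charDegree (p := p),
      ← mul_assoc, mul_comm (Nat.card s.auto : ℤ), ← Nat.cast_mul, s.card_orb_mul,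
      Nat.cast_sub hp.out.one_le] at h
    have h' := h.symm.dvd
    push_cast at h'
    have : (p : ℤ) ∣ (deg χ : ℤ) - ((p : ℤ) - 1) * D.c χ + (p : ℤ) * D.c χ :=
      dvd_add h' (dvd_mul_right _ _)
    convert this using 1
    ring
  · obtain ⟨o⟩ : Nonempty s.Orb := inferInstance
    have h := BlocksCore.CyclicBlock.charDegree_modEq s hM (χ := D.f o) (hfB o)
    rw [D.sum_vec, if_pos ⟨o, rfl⟩, D.c_f, hd, mul_zero, zero_add, ← deg_eq_charDegree (p := p),
      D.deg_f] at h
    exact h.symm.dvd
  · exact hother χ fun h => h2 (Finset.mem_erase.mpr ⟨h1, h⟩)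

/-- There is always data with `d = 0`; if there is a single exceptional character, its sign may be
taken to be `-1`. -/
theorem exists_data_zero (hM : Cfsg.IsPModular p M)
    (hidx : ¬ p ∣ (Subgroup.zpowers s.z).index) (hp3 : 3 ≤ p) :
    ∃ D : s.Data, D.d = 0 ∧ (∀ o, D.f o ∈ Cfsg.principalBlock M G) ∧
      (Nat.card s.Orb = 1 → D.eps = -1) := by
  classical
  have := BlocksCore.isPrime hM
  letI : Field (BlocksDefect.Res M) := Ideal.Quotient.field _
  haveI : CharP (BlocksDefect.Res M) p := BlocksDefect.charP_res hM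
  haveI : CharP (AlgebraicClosure (BlocksDefect.Res M)) p :=
    charP_of_injective_ringHom
      (algebraMap (BlocksDefect.Res M) (AlgebraicClosure (BlocksDefect.Res M))).injective p
  have hge := BlocksCore.CyclicRank.card_ge hM s hidx (AlgebraicClosure (BlocksDefect.Res M))
    (algebraMap _ _)
  set B : Finset (Cfsg.IrrCharacter G) :=
    Finset.univ.filter (· ∈ Cfsg.principalBlock M G) with hB
  have hBcard : Nat.card (Cfsg.principalBlock M G) = B.card := by
    rw [Nat.card_eq_fintype_card, Fintype.card_subtype]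
  rw [hBcard] at hge
  have hvec : ∀ χ, χ ∉ B → ∀ o, s.vecO χ o = 0 := fun χ hχ o =>
    BlocksCore.CyclicBlock.vec_of_notMem s hM (by simpa [hB] using hχ) _
  have hnz : ∀ χ ∈ B, ∃ o, s.vecO χ o ≠ 0 := fun χ hχ =>
    BlocksCore.CyclicBlock.exists_vecO_ne_zero s hM hidx (χ := χ) (by simpa [hB] using hχ)
  rcases Nat.lt_or_ge (Nat.card s.Orb) 2 with h1 | ht
  · -- a single orbit
    obtain ⟨o₀⟩ : Nonempty s.Orb := inferInstance
    have hone : Nat.card s.Orb = 1 := by
      have := Nat.card_pos (α := s.Orb); omega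
    have huniq : ∀ o : s.Orb, o = o₀ := fun o => (Nat.card_eq_one_iff_unique.mp hone).1.elim o o₀
    have he : Nat.card s.auto = p - 1 := by
      have := s.card_orb_mul; rw [hone, one_mul] at this; exact this
    set v : Cfsg.IrrCharacter G → ℤ := fun χ => s.vecO χ o₀ with hv
    have hgram : ∑ χ, v χ * v χ = 1 + (Nat.card s.auto : ℤ) := by
      simpa using s.gram_orb o₀ o₀
    have hBv : ∀ χ ∈ B, 1 ≤ v χ * v χ := fun χ hχ => by
      obtain ⟨o, ho⟩ := hnz χ hχ
      rw [huniq o] at ho
      exact mul_self_pos.mpr ho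
    have hsumB : ∑ χ ∈ B, v χ * v χ = 1 + (Nat.card s.auto : ℤ) := by
      rw [← hgram]
      refine Finset.sum_subset (Finset.subset_univ _) fun χ _ hχ => ?_
      simp [hv, hvec χ hχ o₀]
    have hpm : ∀ χ ∈ B, v χ * v χ = 1 := by
      intro χ hχ
      have h7 : ∑ y ∈ B, (v y * v y - 1) = 0 := by
        apply le_antisymm _ (Finset.sum_nonneg fun y hy => by linarith [hBv y hy])
        rw [Finset.sum_sub_distrib, Finset.sum_const, nsmul_one, hsumB]
        have : (Nat.card s.auto : ℤ) + (Nat.card s.Orb : ℤ) ≤ (B.card : ℤ) := by exact_mod_cast hge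
        rw [hone] at this
        push_cast at this
        linarith
      have h8 := (Finset.sum_eq_zero_iff_of_nonneg fun y hy => by linarith [hBv y hy]).mp h7 χ hχ
      linarith
    have htriv : v triv = -1 := s.vecO_triv o₀
    obtain ⟨χs, hχB, hχne, hχv⟩ : ∃ χs ∈ B, χs ≠ triv ∧ v χs = -1 := by
      by_contra hno
      push_neg at hno
      have hdeg := s.sum_deg_mul_vecO o₀
      have htB : (triv : Cfsg.IrrCharacter G) ∈ B := by
        by_contra h
        have := hvec _ h o₀
        rw [s.vecO_triv] at this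
        omega
      have h2 : ∑ χ, (deg χ : ℤ) * v χ = ∑ χ ∈ B, (deg χ : ℤ) * v χ := by
        symm
        refine Finset.sum_subset (Finset.subset_univ _) fun χ _ hχ => ?_
        simp [hv, hvec χ hχ o₀]
      have h2' : ∑ χ ∈ B, (deg χ : ℤ) * v χ = 0 := h2.symm.trans hdeg
      rw [← Finset.add_sum_erase _ _ htB, htriv, deg_triv] at h2'
      have h3 : ((B.erase triv).card : ℤ) ≤ ∑ χ ∈ B.erase triv, (deg χ : ℤ) * v χ := by
        have := Finset.card_nsmul_le_sum (B.erase triv) (fun χ => (deg χ : ℤ) * v χ) 1 fun χ hχ => by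
          obtain ⟨hne, hmem⟩ := Finset.mem_erase.mp hχ
          rcases mul_self_eq_one_iff.mp (hpm χ hmem) with h | h
          · rw [h, mul_one]; exact_mod_cast (deg_spec χ).1
          · exact absurd h (hno χ hmem hne)
        simpa using this
      rw [Finset.card_erase_of_mem htB] at h3
      push_cast at h2'
      omega
    refine ⟨{ eps := -1
              f := fun _ => χs
              c := fun χ => if χ = χs then 0 else v χ
              d := 0
              b := deg χs
              eps_eq := Or.inr rfl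
              inj := fun a b _ => (huniq a).trans (huniq b).symm
              vec_eq := fun o χ => ?_
              c_f := fun _ => if_pos rfl
              deg_f := fun _ => rfl
              norm_eq := ?_
              degree_eq := ?_
              triv_ne := fun _ => hχne
              c_triv := ?_ }, rfl, fun _ => by simpa [hB] using hχB, fun _ => rfl⟩
    · rw [huniq o]
      by_cases h : χ = χs
      · subst h; simp [← hχv, hv]
      · simp [h, hv]
    · rw [mul_zero, add_zero]
      have : ∀ χ, (if χ = χs then (0 : ℤ) else v χ) * (if χ = χs then (0 : ℤ) else v χ) =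
          v χ * v χ - if χ = χs then 1 else 0 := fun χ => by
        split_ifs with h
        · subst h; rw [hχv]; norm_num
        · simp
      rw [Finset.sum_congr rfl fun χ _ => this χ, Finset.sum_sub_distrib, hgram,
        Finset.sum_ite_eq', if_pos (Finset.mem_univ _)]
      ring
    · have hdeg := s.sum_deg_mul_vecO o₀
      have : ∀ χ, (deg χ : ℤ) * (if χ = χs then (0 : ℤ) else v χ) =
          (deg χ : ℤ) * v χ + if χ = χs then (deg χ : ℤ) else 0 := fun χ => by
        split_ifs with h
        · subst h; rw [hχv]; ring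
        · ring
      rw [Finset.sum_congr rfl fun χ _ => this χ, Finset.sum_add_distrib,
        show ∑ χ, (deg χ : ℤ) * v χ = 0 from hdeg,
        Finset.sum_ite_eq', if_pos (Finset.mem_univ _)]
      ring
    · simp [if_neg hχne.symm, htriv]
  · -- at least two orbits
    obtain ⟨D⟩ := s.nonempty_data ht
    have hnt : Nontrivial s.Orb := by
      rw [← Finite.one_lt_card_iff_nontrivial]; omega
    have hfB : ∀ o, D.f o ∈ B := by
      intro o
      by_contra h
      obtain ⟨o', ho'⟩ := exists_ne o
      have h1 := hvec _ h o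
      have h2 := hvec _ h o'
      rw [D.vec_eq, if_pos rfl, D.c_f] at h1
      rw [D.vec_eq, if_neg (D.inj.ne ho'.symm), D.c_f] at h2
      rcases D.eps_eq with h3 | h3 <;> omega
    set F := Finset.univ.image D.f with hF
    have hFB : F ⊆ B := fun χ hχ => by
      obtain ⟨o, -, rfl⟩ := Finset.mem_image.mp hχ
      exact hfB o
    have hFcard : F.card = Nat.card s.Orb := by
      rw [hF, Finset.card_image_of_injective _ D.inj, Finset.card_univ, Nat.card_eq_fintype_card]
    have hc : ∀ χ ∈ B \ F, 1 ≤ D.c χ * D.c χ := by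
      intro χ hχ
      obtain ⟨hχB, hχF⟩ := Finset.mem_sdiff.mp hχ
      obtain ⟨o, ho⟩ := hnz χ hχB
      rw [D.vec_eq, if_neg (fun (h : χ = D.f o) =>
        hχF (h ▸ Finset.mem_image_of_mem D.f (Finset.mem_univ o))), add_zero] at ho
      exact mul_self_pos.mpr ho
    have hsum : (Nat.card s.auto : ℤ) + (Nat.card s.Orb : ℤ) * (D.d * D.d) ≤
        ∑ χ, D.c χ * D.c χ := by
      have h1 : ((B \ F).card : ℤ) ≤ ∑ χ ∈ B \ F, D.c χ * D.c χ := by
        simpa using Finset.card_nsmul_le_sum (B \ F) (fun χ => D.c χ * D.c χ) 1 hc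
      have h2 : Nat.card s.auto ≤ (B \ F).card := by
        rw [Finset.card_sdiff_of_subset hFB, hFcard]
        omega
      have h2' : (Nat.card s.auto : ℤ) ≤ ((B \ F).card : ℤ) := by exact_mod_cast h2
      have h3 : ∑ χ ∈ F, D.c χ * D.c χ = (Nat.card s.Orb : ℤ) * (D.d * D.d) := by
        rw [hF, Finset.sum_image fun a _ b _ h => D.inj h]
        simp [D.c_f, Nat.card_eq_fintype_card]
      have h4 : ∑ χ ∈ (B \ F) ∪ F, D.c χ * D.c χ ≤ ∑ χ, D.c χ * D.c χ :=
        Finset.sum_le_univ_sum_of_nonneg fun χ => mul_self_nonneg _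
      rw [Finset.sum_union Finset.sdiff_disjoint] at h4
      linarith
    have hn := D.norm_eq
    by_cases hd : D.d = 0
    · exact ⟨D, hd, fun o => by simpa [hB] using hfB o, fun h => by omega⟩
    -- two exceptional characters in the opposite labelling
    have hdd : D.d = -D.eps ∧ Nat.card s.Orb = 2 := by
      have hp2 : (2 : ℤ) ≤ (Nat.card s.Orb : ℤ) := by exact_mod_cast ht
      have h5 : (Nat.card s.Orb : ℤ) * (D.d * D.d) + 2 * D.eps * D.d ≤ 0 := by linarith
      have hd1 : 1 ≤ D.d * D.d := mul_self_pos.mpr hd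
      rcases D.eps_eq with h | h <;> rw [h] at h5 ⊢
      · have hd2 : D.d = -1 := by nlinarith
        refine ⟨hd2, ?_⟩
        rw [hd2] at h5
        omega
      · have hd2 : D.d = 1 := by nlinarith
        refine ⟨by rw [hd2]; norm_num, ?_⟩
        rw [hd2] at h5
        omega
    obtain ⟨hdd, htwo⟩ := hdd
    obtain ⟨o₁, o₂, h12, huniv'⟩ := Nat.card_eq_two_iff.mp htwo
    have huniv : ∀ x, x = o₁ ∨ x = o₂ := fun x => by
      have : x ∈ ({o₁, o₂} : Set s.Orb) := huniv' ▸ Set.mem_univ x
      simpa using this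
    let τ : s.Orb → s.Orb := Equiv.swap o₁ o₂
    have hτ : ∀ o, τ o ≠ o := fun o => by
      rcases huniv o with rfl | rfl
      · simp [τ, h12.symm]
      · simp [τ, h12]
    have hother : ∀ o o' : s.Orb, o' ≠ o → o' = τ o := fun o o' h => by
      rcases huniv o with rfl | rfl <;> rcases huniv o' with rfl | rfl <;> simp_all [τ]
    refine ⟨{ eps := -D.eps
              f := fun o => D.f (τ o)
              c := fun χ => if ∃ o, χ = D.f o then 0 else D.c χ
              d := 0
              b := D.b
              eps_eq := by rcases D.eps_eq with h | h <;> simp [h]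
              inj := D.inj.comp (Equiv.swap o₁ o₂).injective
              vec_eq := fun o χ => ?_
              c_f := fun o => if_pos ⟨τ o, rfl⟩
              deg_f := fun o => D.deg_f _
              norm_eq := ?_
              degree_eq := ?_
              triv_ne := fun o => D.triv_ne _
              c_triv := ?_ }, rfl, fun o => by simpa [hB] using hfB _, fun h => by omega⟩
    · rw [D.vec_eq]
      by_cases h : ∃ o', χ = D.f o'
      · obtain ⟨o', rfl⟩ := h
        have hex : ∃ o'', D.f o' = D.f o'' := ⟨o', rfl⟩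
        rw [if_pos hex, D.c_f, hdd]
        by_cases ho : o' = o
        · subst ho
          rw [if_pos rfl, if_neg (fun h => hτ o' (D.inj h).symm)]
          ring
        · rw [if_neg (fun h => ho (D.inj h)), if_pos (congrArg D.f (hother o o' ho))]
          ring
      · rw [if_neg h, if_neg fun h' => h ⟨o, h'⟩, if_neg fun h' => h ⟨τ o, h'⟩]
    · rw [mul_zero, add_zero]
      have h6 : ∀ χ, (if ∃ o, χ = D.f o then (0 : ℤ) else D.c χ) *
          (if ∃ o, χ = D.f o then (0 : ℤ) else D.c χ) =
          D.c χ * D.c χ - if ∃ o, χ = D.f o then 1 else 0 := fun χ => by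
        split_ifs with h
        · obtain ⟨o, rfl⟩ := h
          rw [D.c_f, hdd]
          rcases D.eps_eq with h | h <;> simp [h]
        · simp
      rw [Finset.sum_congr rfl fun χ _ => h6 χ, Finset.sum_sub_distrib, Finset.sum_boole]
      have h7 : (Finset.univ.filter fun χ => ∃ o, χ = D.f o) = F := by
        ext χ; simp [hF, eq_comm]
      have h8 : (D.eps : ℤ) * D.eps = 1 := D.eps_sq
      rw [hdd] at hn
      rw [h7, hFcard, htwo]
      push_cast
      linear_combination hn + 2 * h8
    · have h6 : ∀ χ, (deg χ : ℤ) * (if ∃ o, χ = D.f o then (0 : ℤ) else D.c χ) =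
          (deg χ : ℤ) * D.c χ + if ∃ o, χ = D.f o then (D.b : ℤ) * D.eps else 0 := fun χ => by
        split_ifs with h
        · obtain ⟨o, rfl⟩ := h
          rw [D.c_f, hdd, D.deg_f]
          ring
        · ring
      have h7 : (Finset.univ.filter fun χ => ∃ o, χ = D.f o) = F := by
        ext χ; simp [hF, eq_comm]
      rw [Finset.sum_congr rfl fun χ _ => h6 χ, Finset.sum_add_distrib, ← Finset.sum_filter,
        h7, Finset.sum_const, hFcard, htwo, nsmul_eq_mul]
      push_cast
      linear_combination D.degree_eq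
    · rw [if_neg fun ⟨o, ho⟩ => D.triv_ne o ho.symm, D.c_triv]

end Setup

end Cfsg.Agent.SmallGroups.SelfCent
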