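import Cfsg.Agent.Lib.SmallGroups.Few.Vanish
import Cfsg.Agent.Lib.SmallGroups.Counting
import Mathlib.GroupTheory.Solvable

/-!
# Perfect groups with few self-centralising Sylow subgroups are simple
-/

set_option autoImplicit false

namespace Cfsg.Agent.SmallGroups.Few

open SelfCent SelfCent.Setup Subgroup

variable {G : Type*} [Group G]

/-- A perfect group has no proper normal subgroup with solvable quotient. -/
theorem eq_top_of_isSolvable_quotient (hperf : commutator G = ⊤) (M : Subgroup G) [M.Normal]
    [Group.IsSolvable (G ⧸ M)] : M = ⊤ := by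
  by_contra hM
  have : Nontrivial (G ⧸ M) := QuotientGroup.nontrivial_iff.mpr hM
  have h : commutator (G ⧸ M) = ⊤ := by
    rw [commutator_def, ← Subgroup.map_top_of_surjective _ (QuotientGroup.mk'_surjective M),
      ← Subgroup.map_commutator, ← commutator_def, hperf]
  exact absurd h (Group.IsSolvable.commutator_lt_top_of_nontrivial (G := G ⧸ M)).ne

variable [Fintype G] {p : ℕ} [hp : Fact p.Prime] (s : Setup G p)

/-- The normalizer of a self-centralising subgroup of prime order is solvable. -/
theorem isSolvable_norm (hK : s.K = ⊥) : Group.IsSolvable s.norm := by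
  obtain ⟨φ, -, -, hker⟩ := s.exists_act hK
  haveI : Group.IsSolvable φ.ker := by
    refine Group.isSolvable_of_comm fun a b => ?_
    obtain ⟨i, hi⟩ := Subgroup.mem_zpowers_iff.mp ((hker a.1).mp a.2)
    obtain ⟨j, hj⟩ := Subgroup.mem_zpowers_iff.mp ((hker b.1).mp b.2)
    apply Subtype.ext; apply Subtype.ext
    show ((a.1 : G)) * (b.1 : G) = (b.1 : G) * (a.1 : G)
    rw [← hi, ← hj]
    exact (Commute.zpow_zpow_self _ _ _).eq
  haveI : Group.IsSolvable s.auto := Group.isSolvable_of_comm fun a b => mul_comm a b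
  exact Group.isSolvable_of_ker_le_range φ.ker.subtype φ (by rw [Subgroup.range_subtype])

/-- A perfect group with few conjugates of a self-centralising subgroup of prime order is simple. -/
theorem isSimpleGroup_of_perfect (hperf : commutator G = ⊤) (hK : s.K = ⊥) {n : ℕ}
    (hG : Nat.card G = Nat.card s.auto * p * (n * p + 1)) (hn : 2 * n < p + 3) :
    IsSimpleGroup G := by
  classical
  have hpG : p ∣ Nat.card G := s.orderOf_z ▸ orderOf_dvd_natCard s.z
  have : Nontrivial G := Finite.one_lt_card_iff_nontrivial.mp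
    (lt_of_lt_of_le hp.out.one_lt (Nat.le_of_dvd Nat.card_pos hpG))
  have hPc : Nat.card (zpowers s.z) = p := (Nat.card_zpowers s.z).trans s.orderOf_z
  have hN : Nat.card s.norm = Nat.card s.auto * p := by
    have h1 := s.card_normalizer
    rw [show Nat.card s.K = 1 by rw [hK, Subgroup.card_bot], mul_one] at h1
    exact h1
  haveI := isSolvable_norm s hK
  have hp' : p.Prime := hp.out
  have hep : Nat.card s.auto < p := by
    have : Nat.card s.auto ≤ p - 1 := by
      rw [← s.card_orb_mul]; exact Nat.le_mul_of_pos_left _ Nat.card_pos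
    have := hp'.two_le
    omega
  -- normal subgroups containing all of `N` up to solvable quotient
  have hjoin : ∀ M : Subgroup G, M.Normal → M ⊔ s.norm = ⊤ → M = ⊤ := by
    intro M hM htop
    have hsurj : Function.Surjective ((QuotientGroup.mk' M).comp s.norm.subtype) := by
      intro q
      obtain ⟨g, rfl⟩ := QuotientGroup.mk'_surjective M q
      have hg : g ∈ ((s.norm ⊔ M : Subgroup G) : Set G) := by
        rw [sup_comm, htop]; exact Set.mem_univ _
      rw [Subgroup.mul_normal] at hg
      obtain ⟨a, ha, b, hb, rfl⟩ := hg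
      refine ⟨⟨a, ha⟩, ?_⟩
      simp only [MonoidHom.comp_apply, Subgroup.coe_subtype]
      rw [map_mul, show QuotientGroup.mk' M b = 1 from (QuotientGroup.eq_one_iff b).mpr hb, mul_one]
    haveI : Group.IsSolvable (G ⧸ M) := Group.isSolvable_of_surjective hsurj
    exact eq_top_of_isSolvable_quotient hperf M
  refine ⟨fun M hM => ?_⟩
  by_cases hpM : p ∣ Nat.card M
  · right
    -- `M` contains every subgroup of order `p`
    have hidx : ¬ p ∣ (zpowers s.z).index := by
      have h := Subgroup.card_mul_index (zpowers s.z)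
      rw [hPc, hG] at h
      have hi : (zpowers s.z).index = Nat.card s.auto * (n * p + 1) :=
        Nat.eq_of_mul_eq_mul_left hp'.pos (by rw [h]; ring)
      rw [hi, hp'.dvd_mul, not_or]
      exact ⟨fun h => absurd (Nat.le_of_dvd Nat.card_pos h) (by omega),
        fun h => hp'.not_dvd_one ((Nat.dvd_add_right (dvd_mul_left p n)).mp h)⟩
    obtain ⟨y, hy⟩ := exists_prime_orderOf_dvd_card' p hpM
    obtain ⟨P, hP⟩ := exists_mem_sylow (G := G) (y := (y : G)) (by rw [orderOf_coe, hy])
    obtain ⟨Q, hQ⟩ := (IsPGroup.of_card (n := 1) (by rw [hPc, pow_one])).exists_le_sylow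
    have hQz : (Q : Subgroup G) = zpowers s.z := by
      refine (Subgroup.eq_of_le_of_card_ge hQ ?_).symm
      obtain ⟨j, hj⟩ := Q.2.exists_card_eq
      rw [hj, hPc]
      rcases Nat.lt_or_ge j 2 with h | h
      · interval_cases j
        · simpa using hp'.one_le
        · simp
      · exfalso
        apply hidx
        have h1 : p * p ∣ Nat.card (Q : Subgroup G) := by
          rw [hj, ← sq]; exact pow_dvd_pow p h
        have h2 := h1.trans (Subgroup.card_subgroup_dvd_card _)
        rw [← Subgroup.card_mul_index (zpowers s.z), hPc] at h2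
        exact Nat.dvd_of_mul_dvd_mul_left hp'.pos h2
    have hPcard : Nat.card (P : Subgroup G) = p := by
      rw [Nat.card_congr (Sylow.equiv P Q).toEquiv, hQz, hPc]
    have hy1 : (y : G) ≠ 1 := fun h => by
      rw [← orderOf_coe, h, orderOf_one] at hy; exact hp'.ne_one hy.symm
    have hPM : (P : Subgroup G) ≤ M := by
      rw [← zpowers_eq_of_card_prime hPcard hP hy1, zpowers_le]; exact y.2
    have hzM : zpowers s.z ≤ M := by
      obtain ⟨g, hg⟩ := MulAction.exists_smul_eq G P Q
      rw [← hQz, ← hg, Sylow.coe_subgroup_smul, Subgroup.pointwise_smul_def]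
      rintro _ ⟨u, hu, rfl⟩
      exact hM.conj_mem u (hPM hu) g
    refine hjoin M hM (eq_top_iff.mpr fun g _ => ?_)
    have h2 : zpowers (g * s.z * g⁻¹) ≤ M := by
      rw [zpowers_le]; exact hM.conj_mem _ (hzM (mem_zpowers _)) g
    -- Frattini argument
    haveI := hM
    let Q' : Sylow p M := Q.subtype (hQz ▸ hzM)
    have hfr := Sylow.normalizer_sup_eq_top Q'
    have hmap : ((Q' : Subgroup M).map M.subtype) = zpowers s.z := by
      rw [Sylow.coe_subtype, Subgroup.map_subgroupOf_eq_of_le (hQz ▸ hzM), hQz]
    rw [hmap] at hfr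
    rw [sup_comm] at hfr
    exact hfr ▸ Subgroup.mem_top g
  · left
    haveI := hM
    -- `M` meets the normalizer trivially
    have hMN : M ⊓ s.norm = ⊥ := by
      rw [eq_bot_iff]
      intro u hu
      obtain ⟨hu1, hu2⟩ := Subgroup.mem_inf.mp hu
      have hc1 : u * s.z * u⁻¹ * s.z⁻¹ ∈ M := by
        have h1 : s.z * u⁻¹ * s.z⁻¹ ∈ M := hM.conj_mem _ (inv_mem hu1) _
        have := mul_mem hu1 h1
        simpa [mul_assoc] using this
      have hc2 : u * s.z * u⁻¹ * s.z⁻¹ ∈ zpowers s.z :=
        mul_mem ((Subgroup.mem_normalizer_iff.mp hu2 _).mp (mem_zpowers _))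
          (inv_mem (mem_zpowers _))
      have hc3 : u * s.z * u⁻¹ * s.z⁻¹ = 1 := by
        by_contra hne
        apply hpM
        rw [← orderOf_of_card_prime hPc hc2 hne]
        exact Subgroup.orderOf_dvd_natCard M hc1
      have huC : u ∈ centralizer ({s.z} : Set G) := by
        rw [mem_centralizer_singleton_iff]
        rwa [mul_inv_eq_one, mul_inv_eq_iff_eq_mul] at hc3
      obtain ⟨k, w, hw, hkw⟩ := s.exists_of_mem_cent huC
      rw [hK, mem_bot] at hw
      rw [hw, mul_one] at hkw
      rw [mem_bot]
      by_contra hne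
      apply hpM
      rw [← orderOf_of_card_prime hPc (hkw ▸ pow_mem (mem_zpowers s.z) k.val) hne]
      exact Subgroup.orderOf_dvd_natCard M hu1
    -- `|M|` divides `n p + 1` and is `1` modulo `p`
    have hJ : Nat.card (M ⊔ s.norm : Subgroup G) = Nat.card M * Nat.card s.norm := by
      rw [← Nat.card_prod]
      refine (Nat.card_congr (Equiv.ofBijective
        (fun x : M × s.norm => (⟨(x.1 : G) * x.2, mul_mem (le_sup_left (a := M) x.1.2)
          (le_sup_right (b := s.norm) x.2.2)⟩ : (M ⊔ s.norm : Subgroup G))) ⟨?_, ?_⟩)).symm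
      · intro a b hab
        have h := congrArg Subtype.val hab
        simp only at h
        exact Subgroup.mul_injective_of_disjoint (disjoint_iff.mpr hMN) h
      · rintro ⟨g, hg⟩
        have hg' : g ∈ ((M ⊔ s.norm : Subgroup G) : Set G) := hg
        rw [Subgroup.normal_mul] at hg'
        obtain ⟨a, ha, b, hb, rfl⟩ := hg'
        exact ⟨(⟨a, ha⟩, ⟨b, hb⟩), rfl⟩
    have hd : Nat.card M ∣ n * p + 1 := by
      have h := Subgroup.card_subgroup_dvd_card (M ⊔ s.norm : Subgroup G)
      rw [hJ, hN, hG, mul_comm (Nat.card M)] at h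
      exact Nat.dvd_of_mul_dvd_mul_left (Nat.mul_pos Nat.card_pos hp'.pos) h
    have hmod : Nat.card M % p = 1 := by
      letI : MulAction (zpowers s.z) M :=
        { smul := fun a u => ⟨(a : G) * u * (a : G)⁻¹, hM.conj_mem _ u.2 _⟩
          one_smul := fun u => by ext; simp [HSMul.hSMul]
          mul_smul := fun a b u => by ext; simp [HSMul.hSMul, mul_assoc] }
      have h := (IsPGroup.of_card (n := 1) (by rw [hPc, pow_one]) :
        IsPGroup p (zpowers s.z)).card_modEq_card_fixedPoints M
      have hfix : Nat.card (MulAction.fixedPoints (zpowers s.z) M) = 1 := by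
        have hmem : ∀ x : M, x ∈ MulAction.fixedPoints (zpowers s.z) M ↔ x = 1 := by
          intro x
          constructor
          · intro hx
            have h1 : s.z * (x : G) * s.z⁻¹ = x :=
              congrArg Subtype.val (hx ⟨s.z, mem_zpowers _⟩)
            have hxC : (x : G) ∈ centralizer ({s.z} : Set G) := by
              rw [mem_centralizer_singleton_iff]
              exact (mul_inv_eq_iff_eq_mul.mp h1).symm
            obtain ⟨k, w, hw, hkw⟩ := s.exists_of_mem_cent hxC
            rw [hK, mem_bot] at hw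
            rw [hw, mul_one] at hkw
            have hxN : (x : G) ∈ M ⊓ s.norm := ⟨x.2, Subgroup.le_normalizer
              (hkw ▸ pow_mem (mem_zpowers s.z) k.val)⟩
            rw [hMN, mem_bot] at hxN
            exact Subtype.ext hxN
          · rintro rfl a
            exact Subtype.ext (by show (a : G) * 1 * (a : G)⁻¹ = 1; group)
        exact Nat.card_eq_one_iff_unique.mpr
          ⟨⟨fun a b => Subtype.ext (((hmem a.1).mp a.2).trans ((hmem b.1).mp b.2).symm)⟩,
            ⟨⟨1, (hmem 1).mpr rfl⟩⟩⟩
      rw [hfix] at h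
      have h' : Nat.card M % p = 1 % p := h
      rwa [Nat.one_mod_eq_one.mpr hp'.ne_one] at h'
    by_contra hne
    have hd1 : 1 < Nat.card M := (Subgroup.one_lt_card_iff_ne_bot M).mpr hne
    have hd1' := hd1
    obtain ⟨q, hq⟩ := hd
    have hM' := Nat.div_add_mod (Nat.card M) p
    rw [hmod] at hM'
    set u := Nat.card M / p
    have hqmod : q % p = 1 := by
      have h1 : (n * p + 1) % p = 1 := by
        rw [Nat.mul_add_mod', Nat.mod_eq_of_lt hp'.one_lt]
      rwa [hq, Nat.mul_mod, hmod, one_mul, Nat.mod_mod] at h1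
    have hq' := Nat.div_add_mod q p
    rw [hqmod] at hq'
    set v := q / p
    have hu : 1 ≤ u := Nat.one_le_iff_ne_zero.mpr fun h0 => by
      rw [h0, Nat.mul_zero, Nat.zero_add] at hM'
      exact (Nat.lt_irrefl _) (hM' ▸ hd1')
    rcases Nat.eq_zero_or_pos v with hv | hv
    · -- `|M| = n p + 1`: the normalizer is a complement
      rw [hv, mul_zero, zero_add] at hq'
      rw [← hq', mul_one] at hq
      have htop : M ⊔ s.norm = ⊤ := Subgroup.eq_top_of_card_eq _ (by
        rw [hJ, hN, hG, hq]; ring)
      exact hpM (by rw [hjoin M hM htop, Subgroup.card_top]; exact hpG)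
    · have h1 : (n * p + 1 : ℤ) = ((p : ℤ) * u + 1) * ((p : ℤ) * v + 1) := by
        have : n * p + 1 = (p * u + 1) * (p * v + 1) := by rw [hM', hq']; exact hq
        exact_mod_cast this
      have h2 : (n : ℤ) = p * u * v + u + v := by
        apply mul_right_cancel₀ (show (p : ℤ) ≠ 0 by exact_mod_cast hp'.ne_zero)
        linear_combination h1
      have h3 : (p : ℤ) * 1 ≤ p * (u * v) :=
        mul_le_mul_of_nonneg_left (by exact_mod_cast Nat.mul_pos hu hv) (by positivity)
      rw [mul_assoc] at h2
      have hnZ : (2 : ℤ) * n < p + 3 := by exact_mod_cast hn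
      have huZ : (1 : ℤ) ≤ u := by exact_mod_cast hu
      have hvZ : (1 : ℤ) ≤ v := by exact_mod_cast hv
      have hpZ : (0 : ℤ) ≤ p := by positivity
      linarith

end Cfsg.Agent.SmallGroups.Few
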