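import Cfsg.Agent.Lib.SmallGroups.Few.Structure
import Cfsg.Agent.Lib.SmallGroups.Few.Ident
import Cfsg.Agent.Lib.SmallGroups.Few.Simple
import Cfsg.Agent.Lib.LinearGroup.Card
import Cfsg.Agent.Lib.LinearGroup.SmallPSL

/-!
# Brauer's theorem on few self-centralising Sylow subgroups
-/

set_option autoImplicit false

namespace Cfsg.Agent.SmallGroups.Few

open SelfCent SelfCent.Setup Subgroup

variable {G : Type*} [Group G] [Fintype G] {p : ℕ} [hp : Fact p.Prime]

/-- `2 ≤ |N : C|` in a non-abelian simple group. -/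
theorem two_le_auto [IsSimpleGroup G] (hne : ¬ IsMulCommutative G) (s : Setup G p)
    (hidx : ¬ p ∣ (zpowers s.z).index) : 2 ≤ Nat.card s.auto := by
  by_contra h
  have he : Nat.card s.auto = 1 := by have := Nat.card_pos (α := s.auto); omega
  have hPc : Nat.card (zpowers s.z) = p ^ 1 := by
    rw [Nat.card_zpowers, s.orderOf_z, pow_one]
  let Q : Sylow p G := (IsPGroup.of_card hPc).toSylow hidx
  have hQ : (Q : Subgroup G) = zpowers s.z := rfl
  refine not_normalizer_le_centralizer hne (s.orderOf_z ▸ orderOf_dvd_natCard s.z) Q ?_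
  rw [hQ]
  refine le_of_eq (Subgroup.eq_of_le_of_card_ge (centralizer_le_normalizer _) ?_).symm
  rw [s.card_normalizer, he, one_mul, zpowers_eq_closure, centralizer_closure, s.card_cent]

/-- The simple groups with `n` self-centralising Sylow `p`-subgroups, `n` not of Brauer's form. -/
theorem classify_of_nf [IsSimpleGroup G] (hne : ¬ IsMulCommutative G) (s : Setup G p) (hK : s.K = ⊥)
    (hp5 : 5 ≤ p) {n : ℕ} (hn1 : 1 ≤ n) (hnf : NF p n)
    (hG : Nat.card G = Nat.card s.auto * p * (n * p + 1)) :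
    (∃ (F : Type) (_ : Field F) (_ : Fintype F), Fintype.card F = p ∧
      Nonempty (G ≃* Matrix.ProjectiveSpecialLinearGroup (Fin 2) F)) ∨
    (∃ (m : ℕ) (F : Type) (_ : Field F) (_ : Fintype F), Fintype.card F = 2 ^ m ∧ p = 2 ^ m + 1 ∧
      Nonempty (G ≃* Matrix.ProjectiveSpecialLinearGroup (Fin 2) F)) := by
  classical
  haveI := Fintype.ofFinite s.Orb
  set e := Nat.card s.auto with hedef
  set t := Nat.card s.Orb with htdef
  have hep : e < p := by
    have : e ≤ p - 1 := by
      rw [hedef, ← s.card_orb_mul]; exact Nat.le_mul_of_pos_left _ Nat.card_pos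
    omega
  have he : 2 ≤ e := two_le_auto hne s (not_dvd_index s n hG hep)
  have het : t * e = p - 1 := s.card_orb_mul
  obtain ⟨C⟩ := exists_core hne s hK (by omega) hG hn1 hnf he
  have hone : n = 1 → t = 2 → ∃ (F : Type) (_ : Field F) (_ : Fintype F), Fintype.card F = p ∧
      Nonempty (G ≃* Matrix.ProjectiveSpecialLinearGroup (Fin 2) F) := by
    rintro rfl ht
    refine exists_psl_prime hne s hK hp5 ?_ (by rw [hG, one_mul])
    rw [ht] at het
    omega
  rcases C.cases with h | h
  · obtain ⟨h1, h2⟩ := C.case_one hK hn1 he h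
    exact Or.inl (hone h1 h2)
  have hbodd := C.b_odd hp5 h
  have hb : C.D.b * t = n * p + 1 := h.2
  have hodd : p % 2 = 1 := by have := hp.out.eq_two_or_odd; omega
  have h2 : 2 ∣ Nat.card G := by
    have h3 : 2 ∣ t * e := by omega
    rw [hG]
    rcases Nat.prime_two.dvd_mul.mp h3 with h4 | h4
    · exact dvd_mul_of_dvd_right (hb ▸ dvd_mul_of_dvd_right h4 _) _
    · exact dvd_mul_of_dvd_left (dvd_mul_of_dvd_left h4 _) _
  rcases structure_two s hK hp5 hn1 he hG h2 (fun y hy1 hy => C.hits_eq hK hp5 hG h hy1 hy) with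
    ⟨he2, hcent⟩ | hn1'
  · -- the characteristic two family
    right
    obtain ⟨T⟩ := (inferInstance : Nonempty (Sylow 2 G))
    obtain ⟨k, hk⟩ := T.2.exists_card_eq
    have hT1 : 2 ∣ Nat.card (T : Subgroup G) := T.dvd_card_of_dvd_card h2
    haveI : Nontrivial (T : Subgroup G) := Finite.one_lt_card_iff_nontrivial.mp
      (lt_of_lt_of_le one_lt_two (Nat.le_of_dvd Nat.card_pos hT1))
    obtain ⟨y, hy⟩ := exists_prime_orderOf_dvd_card' (G := center (T : Subgroup G)) 2 (by
      have hc := T.2.center_nontrivial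
      obtain ⟨j, hj, hj'⟩ := (T.2.to_subgroup _).nontrivial_iff_card.mp hc
      rw [hj']; exact dvd_pow_self 2 hj.ne')
    set x : G := ((y : (T : Subgroup G)) : G) with hxdef
    have hx : orderOf x = 2 := by rw [hxdef, orderOf_coe, orderOf_coe, hy]
    obtain ⟨hexp, hxC⟩ := hcent x hx
    set M := centralizer ({x} : Set G) with hM
    have hTM : (T : Subgroup G) ≤ M := fun g hg => by
      rw [hM, mem_centralizer_singleton_iff]
      exact congrArg Subtype.val (Subgroup.mem_center_iff.mp y.2 ⟨g, hg⟩)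
    have hMp : IsPGroup 2 M := fun c => ⟨1, Subtype.ext (by simpa using hexp c c.2)⟩
    have hTeq : (T : Subgroup G) = M := (T.is_maximal' hMp hTM).symm
    have hTcard : Nat.card (T : Subgroup G) = 2 * (n + 1) :=
      (congrArg (fun H : Subgroup G => Nat.card H) hTeq).trans hxC
    have hnc : ¬ IsCyclic (T : Subgroup G) := by
      intro hc
      obtain ⟨g, hg⟩ := IsCyclic.exists_ofOrder_eq_natCard (α := (T : Subgroup G))
      have h4 : orderOf g ∣ 2 :=
        orderOf_dvd_of_pow_eq_one (Subtype.ext (by simpa using hexp g (hTM g.2)))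
      have := Nat.le_of_dvd (by norm_num) h4
      omega
    have hnn : ¬ (T : Subgroup G).Normal := by
      intro hN
      rcases hN.eq_bot_or_eq_top with h3 | h3
      · rw [h3, card_bot] at hTcard; omega
      · rw [h3, card_top, hG] at hTcard
        have h4 : p ∣ 2 * (n + 1) := hTcard ▸ dvd_mul_of_dvd_left (dvd_mul_left p e) _
        have h5 : p ∣ 2 ^ k := by
          rw [← hk, h3, card_top, hG]; exact dvd_mul_of_dvd_left (dvd_mul_left p e) _
        have h6 := Nat.le_of_dvd (by norm_num) (hp.out.dvd_of_dvd_pow h5)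
        omega
    obtain ⟨F, hF1, hF2, hFcard, ⟨φ⟩⟩ := Cfsg.Agent.S1230.result T hnc hnn (fun u hu => by
      obtain ⟨hu2, -⟩ := hcent u hu
      refine ⟨isMulCommutative_iff.mpr fun a b => ?_, hu2⟩
      have hi : ∀ c : centralizer ({u} : Set G), c⁻¹ = c := fun c => by
        apply inv_eq_of_mul_eq_one_right
        apply Subtype.ext
        have := hu2 c c.2
        simpa [sq] using this
      rw [← hi (a * b), mul_inv_rev, hi, hi])
    refine ⟨k, F, hF1, hF2, hFcard.trans hk, ?_, ⟨φ⟩⟩
    -- the order of `PSL(2, q)` determines `p`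
    have hq : Fintype.card F = 2 * (n + 1) := hFcard.trans hTcard
    have hcardPSL := LinearGroup.gcd_mul_card_PSL_two (F := F)
    rw [← Nat.card_congr φ.toEquiv, hG, show e = 2 from he2, Nat.card_eq_fintype_card (α := F), hq] at hcardPSL
    have hgcd : Nat.gcd 2 (2 * (n + 1) - 1) = 1 := by
      have hco : Nat.Coprime 2 (2 * (n + 1) - 1) := by
        rw [Nat.coprime_two_left]; exact ⟨n, by omega⟩
      exact hco
    rw [hgcd, one_mul] at hcardPSL
    have h7 : (1 : ℕ) ≤ (2 * (n + 1)) ^ 2 := Nat.one_le_pow _ _ (by omega)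
    have h8 : ((2 : ℤ) * p * (n * p + 1)) = 2 * (n + 1) * ((2 * (n + 1)) ^ 2 - 1) := by
      have := congrArg (fun a : ℕ => (a : ℤ)) hcardPSL
      simp only [Nat.cast_mul, Nat.cast_sub h7, Nat.cast_pow, Nat.cast_add, Nat.cast_one,
        Nat.cast_ofNat] at this
      exact this
    have h9 : ((p : ℤ) - (2 * n + 3)) * ((n : ℤ) * (p + (2 * n + 3)) + 1) = 0 := by
      refine (mul_eq_zero.mp (?_ : (2 : ℤ) * (((p : ℤ) - (2 * n + 3)) *
        ((n : ℤ) * (p + (2 * n + 3)) + 1)) = 0)).resolve_left two_ne_zero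
      linear_combination h8
    rcases mul_eq_zero.mp h9 with h10 | h10
    · rw [← hk, hTcard]; omega
    · have : (0 : ℤ) ≤ (n : ℤ) * (p + (2 * n + 3)) := by positivity
      omega
  · left
    subst hn1'
    refine hone rfl ?_
    have ht : t ∣ 2 := by
      have h3 : t ∣ p + 1 := ⟨C.D.b, by rw [one_mul] at hb; rw [← hb, mul_comm]⟩
      have h4 := Nat.dvd_sub h3 (Dvd.intro e het : t ∣ p - 1)
      have h5 : p + 1 - (p - 1) = 2 := by clear hone; omega
      rwa [h5] at h4
    rcases (Nat.dvd_prime Nat.prime_two).mp ht with r | r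
    · exfalso
      rw [r, one_mul, mul_one] at hb
      clear hone
      exact hbodd ⟨(p + 1) / 2, by omega⟩
    · exact r

/-- The simple groups with few self-centralising Sylow `p`-subgroups. -/
theorem classify [IsSimpleGroup G] (hne : ¬ IsMulCommutative G) (s : Setup G p) (hK : s.K = ⊥)
    (hp5 : 5 ≤ p) {n : ℕ} (hn1 : 1 ≤ n) (hn : 2 * n < p + 3)
    (hG : Nat.card G = Nat.card s.auto * p * (n * p + 1)) :
    (∃ (F : Type) (_ : Field F) (_ : Fintype F), Fintype.card F = p ∧
      Nonempty (G ≃* Matrix.ProjectiveSpecialLinearGroup (Fin 2) F)) ∨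
    (∃ (m : ℕ) (F : Type) (_ : Field F) (_ : Fintype F), Fintype.card F = 2 ^ m ∧ p = 2 ^ m + 1 ∧
      Nonempty (G ≃* Matrix.ProjectiveSpecialLinearGroup (Fin 2) F)) :=
  classify_of_nf hne s hK hp5 hn1 (NF_of_lt hn) hG

end Cfsg.Agent.SmallGroups.Few
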