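import Cfsg.Agent.Lib.SmallGroups.Few.NF
import Cfsg.Agent.Lib.SmallGroups.Few.Large
import Cfsg.Agent.Lib.SmallGroups.Mod.Tuan
import Cfsg.Agent.Lib.BlocksCore.CyclicCount

/-!
# Perfect groups without `p'`-cores: the centraliser of a Sylow subgroup of order `p`
-/

set_option autoImplicit false

namespace Cfsg.Agent.SmallGroups.Few

open SelfCent SelfCent.Setup Subgroup

variable {G : Type*} [Group G] [Fintype G] {p : ℕ} [hp : Fact p.Prime]

omit [Fintype G] in
theorem hom_eq_one_of_perfect (hperf : commutator G = ⊤) {A : Type*} [CommGroup A] (f : G →* A)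
    (g : G) : f g = 1 :=
  MonoidHom.mem_ker.mp (Abelianization.commutator_subset_ker f (hperf ▸ Subgroup.mem_top g))

/-- A perfect group has a single linear character. -/
theorem eq_triv_of_deg_one (hperf : commutator G = ⊤) (χ : Cfsg.IrrCharacter G) (h : deg χ = 1) :
    χ = triv := by
  have h1 : (χ : G → ℂ) 1 = 1 := by rw [(deg_spec χ).2.2, h]; simp
  obtain ⟨f, hf⟩ := CharCore.IsCharacter.exists_hom_of_degree_one
    (CharCore.irr_isCharacter χ) h1
  apply Subtype.ext
  funext g
  simp [hf, hom_eq_one_of_perfect hperf f g, SelfCent.Setup.triv]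

/-- Burnside's transfer in a perfect group. -/
theorem not_normalizer_le_centralizer_of_perfect (hperf : commutator G = ⊤) (P : Sylow p G)
    (hP : p ∣ Nat.card G) :
    ¬ normalizer ((P : Subgroup G) : Set G) ≤ centralizer ((P : Subgroup G) : Set G) := by
  intro h
  have hk := MonoidHom.ker_transferSylow_isComplement' P h
  have hcomm : ∀ a b : (P : Subgroup G), a * b = b * a := fun a b =>
    Subtype.ext (Subgroup.mem_centralizer_iff.mp (h (Subgroup.le_normalizer a.2)) b b.2).symm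
  letI : CommGroup (P : Subgroup G) := { (inferInstance : Group (P : Subgroup G)) with mul_comm := hcomm }
  have h1 : (MonoidHom.transferSylow P h).ker = ⊤ := eq_top_iff.mpr fun g _ =>
    MonoidHom.mem_ker.mpr (hom_eq_one_of_perfect hperf _ g)
  have h2 := hk.index_eq_card
  rw [h1, card_top] at h2
  exact P.not_dvd_index (h2 ▸ hP)

/-- `2 ≤ |N : C|` in a perfect group. -/
theorem two_le_auto_of_perfect (hperf : commutator G = ⊤) (s : Setup G p)
    (hidx : ¬ p ∣ (zpowers s.z).index) : 2 ≤ Nat.card s.auto := by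
  by_contra h
  have he : Nat.card s.auto = 1 := by have := Nat.card_pos (α := s.auto); omega
  have hPc : Nat.card (zpowers s.z) = p ^ 1 := by
    rw [Nat.card_zpowers, s.orderOf_z, pow_one]
  let Q : Sylow p G := (IsPGroup.of_card hPc).toSylow hidx
  have hQ : (Q : Subgroup G) = zpowers s.z := rfl
  refine not_normalizer_le_centralizer_of_perfect hperf Q
    (s.orderOf_z ▸ orderOf_dvd_natCard s.z) ?_
  rw [hQ]
  refine le_of_eq (Subgroup.eq_of_le_of_card_ge (centralizer_le_normalizer _) ?_).symm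
  rw [s.card_normalizer, he, one_mul, zpowers_eq_closure, centralizer_closure, s.card_cent]

/-- In a perfect group `⟨z⟩` is not normal. -/
theorem one_le_of_perfect (hperf : commutator G = ⊤) (s : Setup G p)
    (hidx : ¬ p ∣ (zpowers s.z).index) {n : ℕ}
    (hG : Nat.card G = Nat.card s.auto * (p * Nat.card s.K) * (n * p + 1)) : 1 ≤ n := by
  by_contra hn
  have hn0 : n = 0 := by omega
  have htop : s.norm = ⊤ := by
    apply Subgroup.eq_top_of_card_eq
    rw [show Nat.card s.norm = _ from s.card_normalizer, hG, hn0]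
    ring
  have hmem : ∀ g : G, ∃ a : ZMod p, g * s.z * g⁻¹ = s.zp a := fun g => by
    have hg : g ∈ s.norm := htop ▸ Subgroup.mem_top g
    obtain ⟨i, hi⟩ := ((isOfFinOrder_of_finite s.z).mem_powers_iff_mem_zpowers).mpr
      ((Subgroup.mem_normalizer_iff.mp hg s.z).mp (mem_zpowers s.z))
    exact ⟨(i : ZMod p), by rw [s.zp_natCast]; exact hi.symm⟩
  choose a ha using hmem
  let f : G →* ZMod p :=
    { toFun := a
      map_one' := s.zp_injective (by rw [← ha, s.zp_one]; group)
      map_mul' := fun g h => s.zp_injective (by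
        have h1 : g * s.zp 1 * g⁻¹ = s.zp (a g) := by rw [s.zp_one]; exact ha g
        have h2 := s.conj_zp_mul h1 (a h)
        rw [one_mul, ← ha h] at h2
        rw [← ha, ← h2]
        group) }
  have hcent : ∀ g : G, g * s.z * g⁻¹ = s.z := fun g => by
    have h1 : f.toHomUnits g = 1 := hom_eq_one_of_perfect hperf _ g
    have h2 : a g = 1 := congrArg Units.val h1
    rw [ha, h2, s.zp_one]
  have he := two_le_auto_of_perfect hperf s hidx
  have hc : centralizer ({s.z} : Set G) = ⊤ := eq_top_iff.mpr fun g _ => by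
    rw [mem_centralizer_singleton_iff]; exact mul_inv_eq_iff_eq_mul.mp (hcent g)
  have h3 := s.card_cent
  rw [hc, card_top, hG, hn0] at h3
  have h4 : 0 < p * Nat.card s.K := Nat.mul_pos hp.out.pos Nat.card_pos
  nlinarith

omit hp in
/-- An element in the kernel can be dropped. -/
theorem apply_mul_of_eq_deg {χ : Cfsg.IrrCharacter G} {u : G}
    (hu : (χ : G → ℂ) u = (deg χ : ℂ)) (w : G) (j : ℕ) :
    (χ : G → ℂ) (u ^ j * w) = (χ : G → ℂ) w := by
  obtain ⟨m, ρ, hρ, hχρ⟩ := χ.2
  have hd : (deg χ : ℂ) = (Module.finrank ℂ (Fin m → ℂ) : ℂ) := by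
    rw [← (deg_spec χ).2.2, ← hχρ, Representation.char_one]
  rw [← hχρ, hd] at hu
  have h1 : ρ u = 1 := (CharCore.character_eq_finrank_iff ρ u).mp hu
  rw [← hχρ]
  simp [Representation.character, h1]

/-- Without `p'`-core, a character nontrivial at `z` is faithful. -/
theorem eq_one_of_apply_eq_deg (hcore : ∀ N : Subgroup G, N.Normal → ¬ p ∣ Nat.card N → N = ⊥)
    (s : Setup G p) (hidx : ¬ p ∣ (zpowers s.z).index) {χ : Cfsg.IrrCharacter G}
    (hz : (χ : G → ℂ) s.z ≠ (deg χ : ℂ)) {w : G} (hw : (χ : G → ℂ) w = (deg χ : ℂ)) : w = 1 := by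
  obtain ⟨m, ρ, hρ, hχρ⟩ := χ.2
  have hd : (deg χ : ℂ) = (Module.finrank ℂ (Fin m → ℂ) : ℂ) := by
    rw [← (deg_spec χ).2.2, ← hχρ, Representation.char_one]
  rw [← hχρ, hd] at hz hw
  let φ : G →* Module.End ℂ (Fin m → ℂ) := ρ
  have hzk : s.z ∉ φ.ker := fun h =>
    hz ((CharCore.character_eq_finrank_iff ρ _).mpr (MonoidHom.mem_ker.mp h))
  have hbot := hcore φ.ker φ.normal_ker (fun hdvd => hidx ?_)
  · exact Subgroup.mem_bot.mp
      (hbot ▸ (MonoidHom.mem_ker.mpr ((CharCore.character_eq_finrank_iff ρ _).mp hw) : w ∈ φ.ker))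
  · have h1 : p ∣ φ.ker.index := by
      rw [Subgroup.index_eq_card]
      have h2 : orderOf (QuotientGroup.mk' φ.ker s.z) = p :=
        orderOf_eq_prime (by rw [← map_pow,
          orderOf_dvd_iff_pow_eq_one.mp (dvd_of_eq s.orderOf_z), map_one])
          (fun h => hzk ((QuotientGroup.eq_one_iff _).mp h))
      exact h2 ▸ orderOf_dvd_natCard _
    have h3 := Nat.mul_dvd_mul hdvd h1
    rw [Subgroup.card_mul_index, ← Subgroup.card_mul_index (zpowers s.z), Nat.card_zpowers,
      s.orderOf_z] at h3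
    exact Nat.dvd_of_mul_dvd_mul_left hp.out.pos h3

/-- In a perfect group without `p'`-core, `C(z) = ⟨z⟩` unless `n` is of Brauer's form. -/
theorem K_eq_bot_of_nf (hperf : commutator G = ⊤)
    (hcore : ∀ N : Subgroup G, N.Normal → ¬ p ∣ Nat.card N → N = ⊥) (s : Setup G p)
    (hidx : ¬ p ∣ (zpowers s.z).index) {n : ℕ}
    (hG : Nat.card G = Nat.card s.auto * (p * Nat.card s.K) * (n * p + 1)) (hnf : NF p n) :
    s.K = ⊥ := by
  classical
  haveI := Fintype.ofFinite s.Orb
  set e := Nat.card s.auto with hedef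
  set t := Nat.card s.Orb with htdef
  have hp' : p.Prime := Fact.out
  have he : 2 ≤ e := two_le_auto_of_perfect hperf s hidx
  have het : t * e = p - 1 := s.card_orb_mul
  have htpos : 0 < t := Nat.card_pos
  have hep : e < p := by
    have : e ≤ t * e := Nat.le_mul_of_pos_left _ htpos
    have := hp'.one_le
    omega
  obtain ⟨M, hM⟩ := BC86.exists_isPModular hp'
  obtain ⟨D, hd, hfB, -⟩ := s.exists_data_zero hM hidx (by omega)
  obtain ⟨R, -, hR2, hR3, hR4, hb, hR5⟩ := D.exists_rest hM hidx hd hfB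
  have hcidx : (centralizer ({s.z} : Set G)).index = e * (n * p + 1) := by
    have h := Subgroup.card_mul_index (centralizer ({s.z} : Set G))
    rw [s.card_cent, hG] at h
    refine Nat.eq_of_mul_eq_mul_left (Nat.mul_pos hp'.pos Nat.card_pos) (h.trans ?_)
    ring
  have hetZ : (e : ℤ) * t + 1 = p := by
    have : e * t + 1 = p := by rw [mul_comm, het]; omega
    exact_mod_cast this
  have heZ : (0 : ℤ) < e := by exact_mod_cast (show 0 < e by omega)
  have htZ : (0 : ℤ) < t := by exact_mod_cast htpos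
  have hepZ : (e : ℤ) < p := by exact_mod_cast hep
  have hpZ : (p : ℤ) ≠ 0 := by exact_mod_cast hp'.ne_zero
  have hvec : ∀ χ ∈ R, ∀ o, s.vecO χ o = D.c χ := fun χ hχ o => by
    rw [D.vec_eq, if_neg (fun h => hR3 o (by rw [← h]; exact hχ)), add_zero]
  have hconst : ∀ χ : Cfsg.IrrCharacter G, χ ∈ Cfsg.principalBlock M G → ∀ k : ZMod p, k ≠ 0 →
      (χ : G → ℂ) (s.zp k) = s.phi (χ : G → ℂ) k := by
    intro χ hχ k hk
    rw [Setup.phi, Finset.sum_congr rfl
      (fun w hw => s.apply_zp_mul hM hχ hk (s.mem_kset.mp hw)), Finset.sum_const, nsmul_eq_mul,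
      ← mul_assoc, inv_mul_cancel₀ s.card_kset_ne_zero, one_mul]
  have hval : ∀ χ ∈ R, (χ : G → ℂ) s.z = ((-D.c χ : ℤ) : ℂ) := by
    intro χ hχ
    have h := hconst χ (hR4 χ hχ).2.1 1 one_ne_zero
    rw [s.zp_one, s.phi_of_const χ (D.c χ) (hvec χ hχ) one_ne_zero] at h
    rw [h]; push_cast; ring
  have hdegR : ∀ χ ∈ R, (D.c χ = 1 ∧ deg χ + 1 = p) ∨ ((n : ℤ) * p + 1) ∣ (deg χ : ℤ) := by
    intro χ hχ
    obtain ⟨hc, -, hmod⟩ := hR4 χ hχ
    have hne1 : deg χ ≠ 1 := fun h => hR2 (eq_triv_of_deg_one hperf χ h ▸ hχ)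
    have hdpos := (deg_spec χ).1
    have hdvd : (deg χ : ℤ) ∣ (e * (n * p + 1) : ℕ) := by
      have h := deg_dvd_index_mul χ (hval χ hχ)
      rw [hcidx] at h
      rcases hc with r | r <;> rw [r] at h <;> simpa using h
    obtain ⟨q, hq⟩ := hdvd
    push_cast at hq
    have hqpos : 0 < q := by
      by_contra hq0
      have : (deg χ : ℤ) * q ≤ 0 := mul_nonpos_of_nonneg_of_nonpos (by positivity) (by omega)
      have : (0 : ℤ) < e * (n * p + 1) := by positivity
      omega
    obtain ⟨x, hx⟩ := hmod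
    rcases hc with hc | hc
    · rw [hc] at hx
      have hdx : (deg χ : ℤ) = p * x - 1 := by linarith
      have hx1 : 1 ≤ x := by
        by_contra hx0
        have : (p : ℤ) * x ≤ 0 := mul_nonpos_of_nonneg_of_nonpos (by positivity) (by omega)
        omega
      obtain ⟨v, hv⟩ : (p : ℤ) ∣ q + e := ⟨q * x - e * n, by rw [hdx] at hq; linear_combination hq⟩
      have hqv : q = p * v - e := by linarith
      have heq : (e : ℤ) * (n + x) = v * (x * p - 1) := by
        apply mul_left_cancel₀ hpZ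
        rw [hdx, hqv] at hq
        linear_combination hq
      have hv1 : 1 ≤ v := by
        by_contra hv0
        have : (p : ℤ) * v ≤ 0 := mul_nonpos_of_nonneg_of_nonpos (by positivity) (by omega)
        omega
      rcases lt_or_eq_of_le hx1 with hx2 | hx2
      · right
        by_cases hvt : v = 1 ∧ (t : ℤ) = 1
        · obtain ⟨rfl, ht'⟩ := hvt
          rw [ht'] at hetZ
          have hq1 : q = 1 := by linarith
          rw [hq1, mul_one] at hq
          exact ⟨e, by rw [← hq]; ring⟩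
        · exact (hnf.false_of_minus heZ htZ hetZ (by omega) hv1 hvt heq).elim
      · left
        refine ⟨hc, ?_⟩
        rw [← hx2, mul_one] at hdx
        omega
    · right
      rw [hc] at hx
      have hdx : (deg χ : ℤ) = p * x + 1 := by linarith
      have hx1 : 1 ≤ x := by
        by_contra hx0
        have : (p : ℤ) * x ≤ 0 := mul_nonpos_of_nonneg_of_nonpos (by positivity) (by omega)
        omega
      obtain ⟨v, hv⟩ : (p : ℤ) ∣ q - e := ⟨e * n - q * x, by rw [hdx] at hq; linear_combination -hq⟩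
      have hqv : q = p * v + e := by linarith
      have heq : (e : ℤ) * n = e * x + v * (x * p + 1) := by
        apply mul_left_cancel₀ hpZ
        rw [hdx, hqv] at hq
        linear_combination hq
      have hv0 : 0 ≤ v := by
        by_contra hv0
        have : (p : ℤ) * v ≤ p * (-1) := mul_le_mul_of_nonneg_left (by omega) (by positivity)
        omega
      rcases lt_or_eq_of_le hv0 with hv1 | hv1
      · exact (hnf.false_of_plus heZ hetZ hx1 (show 1 ≤ v by omega) heq).elim
      · rw [← hv1, zero_mul, add_zero] at heq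
        exact dvd_of_eq (by rw [hdx, ← (mul_left_cancel₀ heZ.ne' heq : (n : ℤ) = x)]; ring)
  by_cases hsm : ∃ χ ∈ R, D.c χ = 1 ∧ deg χ + 1 = p
  · -- a character of degree `p - 1` is trivial on `K`
    obtain ⟨χ, hχ, hc, hdχ⟩ := hsm
    rw [eq_bot_iff]
    intro w hw
    refine Subgroup.mem_bot.mpr (eq_one_of_apply_eq_deg hcore s hidx ?_
      (apply_K_of_vec_one s χ (fun o => by rw [hvec χ hχ o, hc]) hdχ hw))
    rw [hval χ hχ, hc]
    intro h
    have h' : ((-1 : ℤ) : ℂ) = ((deg χ : ℤ) : ℂ) := by simpa using h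
    have := Int.cast_injective h'
    omega
  -- otherwise the exceptional degree is prime to `n p + 1`
  push Not at hsm
  have hall : ((n : ℤ) * p + 1) ∣ D.eps * (D.b : ℤ) - 1 := by
    have hsum : ∑ χ ∈ insert triv R, (deg χ : ℤ) * D.c χ =
        ∑ χ : Cfsg.IrrCharacter G, (deg χ : ℤ) * D.c χ :=
      Finset.sum_subset (Finset.subset_univ _) fun χ _ hχ => by
        rw [Finset.mem_insert, not_or] at hχ
        rw [hR5 χ hχ.1 hχ.2, mul_zero]
    rw [Finset.sum_insert hR2, D.c_triv, deg_triv] at hsum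
    have h1 : ((n : ℤ) * p + 1) ∣ ∑ χ ∈ R, (deg χ : ℤ) * D.c χ :=
      Finset.dvd_sum fun χ hχ => ((hdegR χ hχ).resolve_left fun h => hsm χ hχ h.1 h.2).mul_right _
    have h2 := D.degree_eq
    rw [← hsum] at h2
    have h3 := h1.neg_right
    rw [show D.eps * (D.b : ℤ) - 1 = -∑ χ ∈ R, (deg χ : ℤ) * D.c χ by
      push_cast at h2 ⊢; linarith]
    exact h3
  obtain ⟨o⟩ : Nonempty s.Orb := inferInstance
  have hpb : ¬ p ∣ D.b := by
    intro h
    have h1 : (p : ℤ) ∣ (e : ℤ) * D.eps := by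
      have := dvd_sub (Int.natCast_dvd_natCast.mpr h) hb
      rwa [sub_sub_cancel] at this
    have h2 : (p : ℤ) ∣ (e : ℤ) := by
      rcases D.eps_eq with r | r <;> rw [r] at h1 <;> simpa using h1
    have := Int.le_of_dvd heZ h2
    omega
  -- integrality of the central character at the elements `z ^ k`
  have hbC : (D.b : ℤ) ∣ ((e * (n * p + 1) : ℕ) : ℤ) * ((p : ℤ) * D.eps) := by
    have hint : ∀ k : ZMod p, k ≠ 0 → IsIntegral ℤ (((e * (n * p + 1) : ℕ) : ℂ) *
        s.phi (D.f o : G → ℂ) k / (D.b : ℂ)) := by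
      intro k hk
      have h := BlocksCore.isIntegral_centralChar (D.f o) (s.zp k)
      rw [Cfsg.centralChar, s.centralizer_zp hk, hcidx, (deg_spec _).2.2, D.deg_f,
        hconst _ (hfB o) k hk] at h
      exact h
    set r : ZMod p := ((Quotient.out o : (ZMod p)ˣ) : ZMod p) with hr
    have hv : (D.eps : ℂ) = s.vecC (D.f o : G → ℂ) r := by
      rw [← s.vec_spec]
      have h := D.vec_eq o (D.f o)
      rw [if_pos rfl, D.c_f, hd, zero_add] at h
      exact_mod_cast h.symm
    have hstd : ∀ a : ZMod p, IsIntegral ℤ (ZMod.stdAddChar a : ℂ) := fun a =>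
      IsIntegral.of_pow hp'.pos (by
        rw [← AddChar.map_nsmul_eq_pow, nsmul_eq_mul, ZMod.natCast_self, zero_mul,
          AddChar.map_zero_eq_one]
        exact isIntegral_one)
    have hX : IsIntegral ℤ (∑ k : ZMod p, ((e * (n * p + 1) : ℕ) : ℂ) *
        s.phi (D.f o : G → ℂ) k / (D.b : ℂ) * ((ZMod.stdAddChar (-(r * k)) : ℂ) - 1)) := by
      refine IsIntegral.sum _ fun k _ => ?_
      rcases eq_or_ne k 0 with rfl | hk
      · simpa using isIntegral_zero
      · exact (hint k hk).mul ((hstd _).sub isIntegral_one)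
    have hb0 : (D.b : ℂ) ≠ 0 := Nat.cast_ne_zero.mpr fun h => hpb (h ▸ dvd_zero p)
    have hpC : (p : ℂ) ≠ 0 := Nat.cast_ne_zero.mpr hp'.ne_zero
    refine Mod.int_dvd_of_eq (q := D.b) (fun h => hpb (h ▸ dvd_zero p)) hX ?_
    rw [Finset.mul_sum]
    push_cast
    rw [hv, Setup.vecC, ← mul_assoc (p : ℂ), mul_inv_cancel₀ hpC, one_mul, Finset.mul_sum]
    refine Finset.sum_congr rfl fun k _ => ?_
    field_simp
  have hbe : D.b ∣ e := by
    have h1 : D.b ∣ e * (n * p + 1) * p := by
      rcases D.eps_eq with r | r <;> rw [r] at hbC <;>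
        exact Int.natCast_dvd_natCast.mp (by simpa using hbC)
    have h2 := ((hp'.coprime_iff_not_dvd.mpr hpb).symm).dvd_of_dvd_mul_right h1
    have hco : Nat.Coprime D.b (n * p + 1) := by
      refine Nat.dvd_one.mp ?_
      have h3 : ((Nat.gcd D.b (n * p + 1) : ℕ) : ℤ) ∣ (D.b : ℤ) :=
        Int.natCast_dvd_natCast.mpr (Nat.gcd_dvd_left _ _)
      have h4 : ((Nat.gcd D.b (n * p + 1) : ℕ) : ℤ) ∣ ((n : ℤ) * p + 1) := by
        exact_mod_cast Nat.gcd_dvd_right D.b (n * p + 1)
      have h5 := dvd_sub (h3.mul_left D.eps) (h4.trans hall)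
      rw [sub_sub_cancel] at h5
      exact Int.natCast_dvd_natCast.mp (by simpa using h5)
    exact hco.dvd_of_dvd_mul_right h2
  have hB : D.b < p := lt_of_le_of_lt (Nat.le_of_dvd (by omega) hbe) hep
  obtain ⟨m, hm, hle, hm'⟩ := s.exists_fix (D.f o)
  rw [D.deg_f] at hle
  rw [D.sum_vec, if_pos ⟨o, rfl⟩, D.c_f, hd, mul_zero, zero_add] at hm'
  have hmB : m = D.b := by
    have h1 : (p : ℤ) ∣ (D.b : ℤ) - (m : ℤ) := by
      rw [show (D.b : ℤ) - (m : ℤ) = ((D.b : ℤ) - (e : ℤ) * D.eps) +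
        ((e : ℤ) * D.eps - (m : ℤ)) by ring]
      exact dvd_add hb hm'.dvd
    have h2 := Int.eq_zero_of_abs_lt_dvd h1 (by rw [abs_lt]; omega)
    omega
  have hsum : ∑ v ∈ s.kset, (D.f o : G → ℂ) v = (s.kset.card : ℂ) * (D.b : ℂ) := by
    rw [← hmB, ← hm, Setup.phi, ← mul_assoc, mul_inv_cancel₀ s.card_kset_ne_zero, one_mul]
    simp [s.zp_zero]
  have hzne : (D.f o : G → ℂ) s.z ≠ (deg (D.f o) : ℂ) := by
    intro hz
    have hphi : ∀ k : ZMod p, s.phi (D.f o : G → ℂ) k = (D.b : ℂ) := fun k => by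
      rw [Setup.phi, Finset.sum_congr rfl (g := fun w => (D.f o : G → ℂ) w) (fun w _ => by
        rw [Setup.zp]; exact apply_mul_of_eq_deg hz w k.val), hsum, ← mul_assoc,
        inv_mul_cancel₀ s.card_kset_ne_zero, one_mul]
    set r : ZMod p := ((Quotient.out o : (ZMod p)ˣ) : ZMod p) with hr
    have hr0 : r ≠ 0 := Units.ne_zero _
    have hv : (D.eps : ℂ) = s.vecC (D.f o : G → ℂ) r := by
      rw [← s.vec_spec]
      have h := D.vec_eq o (D.f o)
      rw [if_pos rfl, D.c_f, hd, zero_add] at h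
      exact_mod_cast h.symm
    have hv' : s.vecC (D.f o : G → ℂ) r = ((-(D.b : ℤ) : ℤ) : ℂ) := by
      simp only [Setup.vecC, hphi, ← Finset.mul_sum, Finset.sum_sub_distrib, Finset.sum_const,
        Finset.card_univ, ZMod.card, nsmul_eq_mul, mul_one]
      rw [Finset.sum_congr rfl (g := fun k => (ZMod.stdAddChar (k * (-r)) : ℂ)) (fun k _ => by
        congr 1; ring), sum_stdAddChar, if_neg (neg_ne_zero.mpr hr0)]
      have : (p : ℂ) ≠ 0 := Nat.cast_ne_zero.mpr hp'.ne_zero
      push_cast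
      field_simp
      ring
    rw [hv'] at hv
    have hb1 := Int.cast_injective (α := ℂ) hv
    refine D.triv_ne o (eq_triv_of_deg_one hperf _ ?_)
    rw [D.deg_f]
    rcases D.eps_eq with r | r <;> rw [r] at hb1 <;> omega
  rw [eq_bot_iff]
  intro w hw
  refine Subgroup.mem_bot.mpr (eq_one_of_apply_eq_deg hcore s hidx hzne ?_)
  have hle' : ∀ g : G, ‖(D.f o : G → ℂ) g‖ ≤ (D.b : ℝ) := fun g => by
    have := CharCore.IsCharacter.norm_apply_le (CharCore.irr_isCharacter (D.f o)) g
    simpa [(deg_spec _).2.2, D.deg_f] using this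
  have hz : ∑ v ∈ s.kset, ((D.b : ℝ) - ((D.f o : G → ℂ) v).re) = 0 := by
    rw [Finset.sum_sub_distrib, Finset.sum_const, nsmul_eq_mul, ← Complex.re_sum, hsum]
    simp
  have h3 := (Finset.sum_eq_zero_iff_of_nonneg fun v _ => by
    linarith [Complex.re_le_norm ((D.f o : G → ℂ) v), hle' v]).mp hz w (s.mem_kset.mpr hw)
  have h4 := hle' w
  have hre : ((D.f o : G → ℂ) w).re = (D.b : ℝ) := by linarith
  have h5 : ((D.f o : G → ℂ) w).im = 0 := by
    have h6 : ‖(D.f o : G → ℂ) w‖ ^ 2 ≤ (D.b : ℝ) ^ 2 := pow_le_pow_left₀ (norm_nonneg _) h4 2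
    rw [Complex.sq_norm, Complex.normSq_apply, hre] at h6
    nlinarith [mul_self_nonneg ((D.f o : G → ℂ) w).im]
  rw [D.deg_f]
  exact Complex.ext (by simpa using hre) (by simpa using h5)

end Cfsg.Agent.SmallGroups.Few
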