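import Mathlib.Tactic.Linarith
import Mathlib.Tactic.Ring
import Mathlib.Tactic.LinearCombination
import Mathlib.Data.Int.Order.Basic

/-!
# The arithmetic of few Sylow subgroups
-/

set_option autoImplicit false

namespace Cfsg.Agent.SmallGroups.Few

variable {e t p n x v : ℤ}

/-- A divisor `x p + 1` of `e (n p + 1)` with cofactor `v p + e` forces `2 n ≥ p + 3`. -/
theorem le_of_plus (he : 0 < e) (ht : 0 < t) (hp : e * t + 1 = p) (hx : 1 ≤ x) (hv : 1 ≤ v)
    (h : e * n = e * x + v * (x * p + 1)) : p + 3 ≤ 2 * n := by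
  subst hp
  -- `h := n - x - v x t`
  have hh : e * (n - x - v * x * t) = v * (x + 1) := by linear_combination h
  have h1 : 0 < n - x - v * x * t := by nlinarith
  have h2 : e * (n - x - v * x * t) * t ≤ 2 * (v * x * t) := by
    rw [hh]
    have : 0 ≤ v * t * (x - 1) := mul_nonneg (mul_nonneg (by omega) ht.le) (by omega)
    nlinarith
  have h3 : e * t ≤ e * (n - x - v * x * t) * t := by
    have : 0 ≤ e * t * (n - x - v * x * t - 1) := mul_nonneg (mul_nonneg he.le ht.le) (by omega)
    nlinarith
  nlinarith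

/-- A divisor `x p - 1` of `e (n p + 1)`, `2 ≤ x < p`, forces `2 n ≥ p + 3`. -/
theorem le_of_minus (he : 0 < e) (ht : 0 < t) (hp : e * t + 1 = p) (hx : 2 ≤ x) (hxp : x < p)
    (hv : 1 ≤ v) (h : e * (n + x) = v * (x * p - 1)) : p + 3 ≤ 2 * n := by
  subst hp
  have hh : e * (n + x - v * x * t) = v * (x - 1) := by linear_combination h
  have h1 : 0 < n + x - v * x * t := by nlinarith
  have h2 : 2 ≤ v * t := by
    by_contra hlt
    have hvt : v * t = 1 := by nlinarith
    have hv1 : v = 1 := by nlinarith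
    have ht1 : t = 1 := by nlinarith
    subst hv1 ht1
    have h5 : e ≤ e * (n + x - 1 * x * 1) := le_mul_of_one_le_right he.le (by linarith)
    nlinarith
  have h3 : e * t ≤ v * t * (x - 1) := by
    have : e * t * 1 ≤ e * t * (n + x - v * x * t) :=
      mul_le_mul_of_nonneg_left (by omega) (mul_nonneg he.le ht.le)
    nlinarith
  have h4 : 0 ≤ x * (v * t - 2) := mul_nonneg (by omega) (by omega)
  nlinarith

end Cfsg.Agent.SmallGroups.Few
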