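import Cfsg.Agent.Lib.SmallGroups.Few.Faithful

/-!
# Brauer's theorem on perfect groups with a Sylow subgroup of prime order
-/

set_option autoImplicit false

namespace Cfsg.Agent.SmallGroups.Few

open SelfCent SelfCent.Setup Subgroup

variable {G : Type*} [Group G] [Fintype G] {p : ℕ} [hp : Fact p.Prime]

/-- With `C(z) = ⟨z⟩` and no `p'`-core, a perfect group is simple. -/
theorem isSimpleGroup_of_core (hperf : commutator G = ⊤)
    (hcore : ∀ N : Subgroup G, N.Normal → ¬ p ∣ Nat.card N → N = ⊥) (s : Setup G p) (hK : s.K = ⊥)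
    (hidx : ¬ p ∣ (zpowers s.z).index) : IsSimpleGroup G := by
  classical
  have hpG : p ∣ Nat.card G := s.orderOf_z ▸ orderOf_dvd_natCard s.z
  have : Nontrivial G := Finite.one_lt_card_iff_nontrivial.mp
    (lt_of_lt_of_le hp.out.one_lt (Nat.le_of_dvd Nat.card_pos hpG))
  have hPc : Nat.card (zpowers s.z) = p := (Nat.card_zpowers s.z).trans s.orderOf_z
  haveI := isSolvable_norm s hK
  refine ⟨fun M hM => ?_⟩
  haveI := hM
  by_cases hz : s.z ∈ M
  · right
    let Q : Sylow p G := (IsPGroup.of_card (n := 1) (by rw [hPc, pow_one]) :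
      IsPGroup p (zpowers s.z)).toSylow hidx
    have hQM : (Q : Subgroup G) ≤ M := zpowers_le.mpr hz
    let Q' : Sylow p M := Q.subtype hQM
    have hfr := Sylow.normalizer_sup_eq_top Q'
    have hmap : ((Q' : Subgroup M).map M.subtype) = zpowers s.z := by
      rw [Sylow.coe_subtype, Subgroup.map_subgroupOf_eq_of_le hQM]
      rfl
    rw [hmap] at hfr
    have hsurj : Function.Surjective ((QuotientGroup.mk' M).comp s.norm.subtype) := by
      intro q
      obtain ⟨g, rfl⟩ := QuotientGroup.mk'_surjective M q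
      have hg : g ∈ ((s.norm ⊔ M : Subgroup G) : Set G) := by
        rw [hfr]; exact Set.mem_univ _
      rw [Subgroup.mul_normal] at hg
      obtain ⟨a, ha, b, hb, rfl⟩ := hg
      refine ⟨⟨a, ha⟩, ?_⟩
      simp only [MonoidHom.comp_apply, Subgroup.coe_subtype]
      rw [map_mul, show QuotientGroup.mk' M b = 1 from (QuotientGroup.eq_one_iff b).mpr hb, mul_one]
    haveI : Group.IsSolvable (G ⧸ M) := Group.isSolvable_of_surjective hsurj
    exact eq_top_of_isSolvable_quotient hperf M
  · left
    refine hcore M hM fun hdvd => hidx ?_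
    have h1 : p ∣ M.index := by
      rw [Subgroup.index_eq_card]
      have h2 : orderOf (QuotientGroup.mk' M s.z) = p :=
        orderOf_eq_prime (by rw [← map_pow,
          orderOf_dvd_iff_pow_eq_one.mp (dvd_of_eq s.orderOf_z), map_one])
          (fun h => hz ((QuotientGroup.eq_one_iff _).mp h))
      exact h2 ▸ orderOf_dvd_natCard _
    have h3 := Nat.mul_dvd_mul hdvd h1
    rw [Subgroup.card_mul_index, ← Subgroup.card_mul_index (zpowers s.z), hPc] at h3
    exact Nat.dvd_of_mul_dvd_mul_left hp.out.pos h3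

omit [Fintype G] hp in
theorem not_isMulCommutative_of_perfect [Nontrivial G] (hperf : commutator G = ⊤) :
    ¬ IsMulCommutative G := by
  intro h
  have hbot : commutator G = ⊥ := by
    rw [commutator_def, Subgroup.commutator_eq_bot_iff_le_centralizer]
    intro a _
    rw [Subgroup.mem_centralizer_iff]
    exact fun b _ => isMulCommutative_iff.mp h b a
  exact top_ne_bot (hperf.symm.trans hbot)

/-- Brauer's theorem for a perfect group without `p'`-core. -/
theorem brauer (hperf : commutator G = ⊤)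
    (hcore : ∀ N : Subgroup G, N.Normal → ¬ p ∣ Nat.card N → N = ⊥) (P : Sylow p G)
    (hP : Nat.card P = p) {n : ℕ} (hn : Nat.card (Sylow p G) = n * p + 1) (hnf : NF p n) :
    3 < p ∧
    ((∃ (F : Type) (_ : Field F) (_ : Fintype F), Fintype.card F = p ∧
      Nonempty (G ≃* Matrix.ProjectiveSpecialLinearGroup (Fin 2) F)) ∨
    (∃ (m : ℕ) (F : Type) (_ : Field F) (_ : Fintype F), Fintype.card F = 2 ^ m ∧ p = 2 ^ m + 1 ∧
      Nonempty (G ≃* Matrix.ProjectiveSpecialLinearGroup (Fin 2) F))) := by
  classical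
  have hp' : p.Prime := hp.out
  obtain ⟨y, hy⟩ := exists_prime_orderOf_dvd_card' (G := (P : Subgroup G)) p (dvd_of_eq hP.symm)
  have hyG : orderOf (y : G) = p := (Subgroup.orderOf_coe y).trans hy
  have hzP : zpowers (y : G) = (P : Subgroup G) :=
    Subgroup.eq_of_le_of_card_ge (zpowers_le.mpr y.2) (by rw [Nat.card_zpowers, hyG]; exact hP.le)
  have hidx : ¬ p ∣ (zpowers (y : G)).index := by rw [hzP]; exact P.not_dvd_index
  obtain ⟨s, hs⟩ := BlocksCore.CyclicCount.exists_setup hyG hidx
  rw [← hs] at hidx hzP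
  have hG : Nat.card G = Nat.card s.auto * (p * Nat.card s.K) * (n * p + 1) := by
    have h1 := SmallGroups.card_normalizer_mul P
    rw [← hzP, s.card_normalizer, hn] at h1
    exact h1.symm
  have hn1 := one_le_of_perfect hperf s hidx hG
  have hK := K_eq_bot_of_nf hperf hcore s hidx hG hnf
  haveI := isSimpleGroup_of_core hperf hcore s hK hidx
  have hne := not_isMulCommutative_of_perfect (G := G) hperf
  have he : 2 ≤ Nat.card s.auto := two_le_auto_of_perfect hperf s hidx
  have hG' : Nat.card G = Nat.card s.auto * p * (n * p + 1) := by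
    rw [hG, show Nat.card s.K = 1 by rw [hK, Subgroup.card_bot], mul_one]
  haveI := Fintype.ofFinite s.Orb
  have het : Nat.card s.Orb * Nat.card s.auto = p - 1 := s.card_orb_mul
  have het' : Nat.card s.auto ≤ p - 1 := het ▸ Nat.le_mul_of_pos_left _ Nat.card_pos
  have hp3 : 3 < p := by
    by_contra h
    have hp3 : p = 3 := by omega
    subst hp3
    have he2 : Nat.card s.auto = 2 := by omega
    have ht1 : Nat.card s.Orb = 1 := by rw [he2] at het; omega
    obtain ⟨C⟩ := exists_core hne s hK (le_refl 3) hG' hn1 hnf he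
    rcases C.cases with hc | ⟨heps, hb⟩
    · omega
    rw [ht1, mul_one] at hb
    obtain ⟨χ, hχ⟩ := Finset.card_eq_one.mp (show C.R.card = 1 by have := C.card_R; omega)
    have hd := C.D.degree_eq
    have hsum : ∑ ψ ∈ insert triv C.R, (deg ψ : ℤ) * C.D.c ψ =
        ∑ ψ : Cfsg.IrrCharacter G, (deg ψ : ℤ) * C.D.c ψ :=
      Finset.sum_subset (Finset.subset_univ _) fun ψ _ hψ => by
        rw [Finset.mem_insert, not_or] at hψ
        rw [C.zero ψ hψ.1 hψ.2, mul_zero]
    rw [← hsum, Finset.sum_insert C.triv_not, C.D.c_triv, deg_triv, hχ, Finset.sum_singleton,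
      heps, hb] at hd
    rcases C.deg_R χ (hχ ▸ Finset.mem_singleton_self χ) with ⟨r, h'⟩ | ⟨r, h'⟩ <;> rw [r] at hd
    · push_cast at hd; omega
    · push_cast at hd; omega
  refine ⟨hp3, classify_of_nf hne s hK ?_ hn1 hnf hG'⟩
  by_contra h
  have : p = 4 := by omega
  rw [this] at hp'
  norm_num at hp'

end Cfsg.Agent.SmallGroups.Few
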