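import Cfsg.Agent.Lib.SmallGroups.Few.Degrees
import Cfsg.Agent.Lib.CharCore.InvariantOver

/-!
# An exceptional degree equal to the index forces a single orbit of further Sylow subgroups
-/

set_option autoImplicit false

open scoped ComplexConjugate

namespace Cfsg.Agent.SmallGroups.Few

open SelfCent SelfCent.Setup

variable {G : Type*} [Group G] [Fintype G] {p : ℕ} [hp : Fact p.Prime]

theorem Core.deg_mu {s : Setup G p} [Fintype s.Orb] [DecidableEq (Cfsg.IrrCharacter G)] {n : ℕ}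
    (C : Core s n) (hK : s.K = ⊥) (χ : Cfsg.IrrCharacter G) [Decidable (∃ o, χ = C.D.f o)] :
    ∃ μ : ℕ, s.mult (χ : G → ℂ) 0 = μ ∧
      (deg χ : ℤ) = (p : ℤ) * μ + ((p : ℤ) - 1) * C.D.c χ +
        (if ∃ o, χ = C.D.f o then (Nat.card s.auto : ℤ) * C.D.eps else 0) ∧
      ∀ r, s.mult (χ : G → ℂ) r = ((μ : ℤ) + s.vec χ r : ℤ) := by
  obtain ⟨μ, hμ, hdeg, hr⟩ := s.exists_mu hK χ
  refine ⟨μ, hμ, ?_, hr⟩
  have h1 : (Nat.card s.auto : ℤ) * (Nat.card s.Orb : ℤ) = (p : ℤ) - 1 := by
    rw [mul_comm, ← Nat.cast_mul, s.card_orb_mul, Nat.cast_sub hp.out.one_le]; rfl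
  rw [hdeg, C.D.sum_vec, mul_add, ← mul_assoc, h1, mul_ite, mul_zero, add_assoc]
  split_ifs <;> rfl

theorem Core.case_one {s : Setup G p} [Fintype s.Orb] [DecidableEq (Cfsg.IrrCharacter G)] {n : ℕ}
    (C : Core s n) (hK : s.K = ⊥) (hn : 1 ≤ n) (he : 2 ≤ Nat.card s.auto)
    (h : C.D.eps = 1 ∧ C.D.b = Nat.card s.auto ∧ 2 ≤ Nat.card s.Orb) :
    n = 1 ∧ Nat.card s.Orb = 2 := by
  classical
  obtain ⟨heps, hb, ht⟩ := h
  set e := Nat.card s.auto with hedef
  set t := Nat.card s.Orb with htdef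
  have hp' : p.Prime := hp.out
  have het : t * e = p - 1 := s.card_orb_mul
  obtain ⟨o⟩ : Nonempty s.Orb := inferInstance
  set f := C.D.f o with hfdef
  have hp0 : (p : ℂ) ≠ 0 := Nat.cast_ne_zero.mpr hp'.ne_zero
  -- the multiplicities of `f`
  obtain ⟨μf, -, hfdeg, hfr⟩ := C.deg_mu hK f
  rw [C.D.c_f, C.d_eq, mul_zero, add_zero, if_pos ⟨o, rfl⟩, heps, mul_one, hfdef, C.D.deg_f, hb]
    at hfdeg
  have hμf : μf = 0 := by
    have h0 : (p : ℤ) * μf = 0 := by linarith
    rcases mul_eq_zero.mp h0 with h | h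
    · exact absurd (by exact_mod_cast h) hp'.ne_zero
    · exact_mod_cast h
  subst hμf
  have hk : s.kset = {1} := by ext w; simp [s.mem_kset, hK]
  have hphi : ∀ (F : G → ℂ) (k : ZMod p), s.phi F k = F (s.zp k) := fun F k => by simp [phi, hk]
  have hvec01 : ∀ r : ZMod p, s.vec f r * s.vec f r = s.vec f r := by
    intro r
    by_cases hr : r = 0
    · subst hr
      have h0 : s.vec f 0 = 0 := by
        apply Int.cast_injective (α := ℂ)
        rw [vec_spec, vecC_eq_sub, sub_self, Int.cast_zero]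
      simp [h0]
    · have := s.vec_eq_vecO f (Units.mk0 r hr)
      rw [Units.val_mk0] at this
      rw [this, C.D.vec_eq, hfdef, C.D.c_f, C.d_eq, heps, zero_add]
      split_ifs <;> norm_num
  have hsumvec : ∑ r : ZMod p, s.vec f r = (e : ℤ) := by
    have h1 := s.phi_zero_of_bot hK f
    rw [s.phi_eq_sum_mult, (deg_spec f).2.2, hfdef, C.D.deg_f, hb] at h1
    simp only [mul_zero, AddChar.map_zero_eq_one, mul_one, ← hfdef, hfr, Nat.cast_zero, zero_add]
      at h1
    rw [← Int.cast_sum] at h1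
    exact_mod_cast h1
  -- the character `f * conj f`
  have hg : Cfsg.IsCharacter G ((f : G → ℂ) * fun x => conj ((f : G → ℂ) x)) :=
    CharCore.isCharacter_mul (CharCore.irr_isCharacter f)
      (CharCore.IsCharacter.star (CharCore.irr_isCharacter f))
  obtain ⟨a, ha⟩ := CharCore.IsCharacter.exists_sum hg
  have hval : ∀ x, (f : G → ℂ) x * conj ((f : G → ℂ) x) =
      ∑ θ : Cfsg.IrrCharacter G, (a θ : ℂ) * (θ : G → ℂ) x := fun x => by
    have := congrFun ha x
    simpa using this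
  have hatriv : a triv = 1 := by
    have h1 : Cfsg.classInner ((f : G → ℂ) * fun x => conj ((f : G → ℂ) x))
        ((triv : Cfsg.IrrCharacter G) : G → ℂ) = a triv := by
      rw [ha, CharCore.classInner_sum_all (fun θ => (a θ : ℂ))]
    have h2 : Cfsg.classInner ((f : G → ℂ) * fun x => conj ((f : G → ℂ) x))
        ((triv : Cfsg.IrrCharacter G) : G → ℂ) = Cfsg.classInner (f : G → ℂ) f := by
      simp [Cfsg.classInner, triv]
    rw [h2, CharCore.classInner_irr_self] at h1
    exact_mod_cast h1.symm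
  -- degrees
  have hdeg : ∑ θ : Cfsg.IrrCharacter G, a θ * deg θ = e ^ 2 := by
    have h1 := hval 1
    rw [(deg_spec f).2.2, hfdef, C.D.deg_f, hb, Complex.conj_natCast] at h1
    simp only [(deg_spec _).2.2] at h1
    rw [sq]
    exact_mod_cast h1.symm
  -- fixed multiplicities
  choose μ hμ hμdeg hμr using fun θ : Cfsg.IrrCharacter G => C.deg_mu hK θ
  have hfix : ∑ θ : Cfsg.IrrCharacter G, a θ * μ θ = e := by
    have h1 : ∀ θ : Cfsg.IrrCharacter G, ∑ k : ZMod p, (θ : G → ℂ) (s.zp k) = (p : ℂ) * μ θ := by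
      intro θ
      rw [← hμ θ, mult, mul_inv_cancel_left₀ hp0]
      simp [hphi]
    have h2 : ∑ k : ZMod p, (f : G → ℂ) (s.zp k) * conj ((f : G → ℂ) (s.zp k)) = (p : ℂ) * e := by
      have h3 : ∀ k, (f : G → ℂ) (s.zp k) =
          ∑ r : ZMod p, (s.vec f r : ℂ) * ZMod.stdAddChar (r * k) := fun k => by
        rw [← hphi (f : G → ℂ) k, s.phi_eq_sum_mult]
        simp [hfr]
      simp only [h3, map_sum, map_mul, map_intCast, conj_stdAddChar, Finset.sum_mul,
        Finset.mul_sum]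
      rw [Finset.sum_comm]
      have h4 : ∀ r : ZMod p, ∑ k : ZMod p, ∑ r' : ZMod p,
          (s.vec f r' : ℂ) * ZMod.stdAddChar (r' * k) *
            ((s.vec f r : ℂ) * ZMod.stdAddChar (-(r * k))) =
          (s.vec f r : ℂ) * (s.vec f r : ℂ) * p := by
        intro r
        rw [Finset.sum_comm]
        rw [Finset.sum_eq_single r]
        · simp [mul_mul_mul_comm, ← AddChar.map_add_eq_mul, ZMod.card]
          ring
        · intro r' _ hr'
          have h5 : ∀ k : ZMod p, (s.vec f r' : ℂ) * ZMod.stdAddChar (r' * k) *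
              ((s.vec f r : ℂ) * ZMod.stdAddChar (-(r * k))) =
              (s.vec f r : ℂ) * (s.vec f r' : ℂ) * ZMod.stdAddChar (k * (r' - r)) := fun k => by
            rw [show k * (r' - r) = r' * k + -(r * k) by ring, AddChar.map_add_eq_mul]
            ring
          rw [Finset.sum_congr rfl fun k _ => h5 k, ← Finset.mul_sum, sum_stdAddChar,
            if_neg (sub_ne_zero.mpr hr'), mul_zero]
        · simp
      rw [Finset.sum_congr rfl fun r _ => h4 r, ← Finset.sum_mul, mul_comm]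
      congr 1
      have h6 : ∑ r : ZMod p, s.vec f r * s.vec f r = (e : ℤ) := by
        rw [Finset.sum_congr rfl fun r _ => hvec01 r, hsumvec]
      exact_mod_cast h6
    simp only [hval] at h2
    rw [Finset.sum_comm, Finset.sum_congr rfl fun θ _ => by rw [← Finset.mul_sum, h1 θ]] at h2
    have h7 : (∑ θ : Cfsg.IrrCharacter G, (a θ : ℂ) * μ θ) * p = (e : ℂ) * p := by
      rw [mul_comm (e : ℂ), ← h2, Finset.sum_mul]
      exact Finset.sum_congr rfl fun θ _ => by ring
    exact_mod_cast mul_right_cancel₀ hp0 h7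
  -- comparison
  have hpt : ((p : ℤ) - 1) = (t : ℤ) * e := by
    rw [← Nat.cast_mul, het, Nat.cast_sub hp'.one_le]; rfl
  have hcmp : ∀ θ : Cfsg.IrrCharacter G, θ ≠ triv →
      (n * p + 1) * μ θ ≤ (n + 1) * deg θ := by
    intro θ hθ
    have h1 := hμdeg θ
    by_cases hR : θ ∈ C.R
    · rw [if_neg (fun ⟨o', ho'⟩ => C.f_not o' (ho' ▸ hR)), add_zero] at h1
      rcases C.deg_R θ hR with ⟨hc, hd⟩ | ⟨hc, hd⟩
      · rw [hc, hd] at h1
        push_cast at h1
        have h2 : (p : ℤ) * μ θ = (p : ℤ) * (n + 1) := by linarith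
        have h3 : (μ θ : ℤ) = n + 1 := mul_left_cancel₀ (by exact_mod_cast hp'.ne_zero) h2
        have h4 : μ θ = n + 1 := by exact_mod_cast h3
        rw [h4, hd, mul_comm]
      · rw [hc, mul_one] at h1
        have h3 : (deg θ : ℤ) + 1 = p := by exact_mod_cast hd
        have h2 : (p : ℤ) * μ θ = 0 := by linarith
        rcases mul_eq_zero.mp h2 with h | h
        · exact absurd (by exact_mod_cast h) hp'.ne_zero
        · have h4 : μ θ = 0 := by exact_mod_cast h
          simp [h4]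
    · rw [C.zero θ hθ hR, mul_zero, add_zero] at h1
      by_cases hF : ∃ o', θ = C.D.f o'
      · obtain ⟨o', rfl⟩ := hF
        rw [if_pos ⟨o', rfl⟩, heps, mul_one, C.D.deg_f, hb] at h1
        have h2 : (p : ℤ) * μ (C.D.f o') = 0 := by linarith
        rcases mul_eq_zero.mp h2 with h | h
        · exact absurd (by exact_mod_cast h) hp'.ne_zero
        · have h4 : μ (C.D.f o') = 0 := by exact_mod_cast h
          simp [h4]
      · rw [if_neg hF, add_zero] at h1
        have h5 : deg θ = p * μ θ := by exact_mod_cast h1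
        rw [h5]
        have := Nat.le_mul_of_pos_left (μ θ) hp'.pos
        nlinarith
  have hμtriv : μ triv = 1 := by
    have h1 := hμdeg triv
    rw [if_neg (fun ⟨o', ho'⟩ => C.D.triv_ne o' ho'.symm), add_zero, C.D.c_triv, deg_triv] at h1
    have h2 : (p : ℤ) * μ triv = (p : ℤ) * 1 := by push_cast at h1; linarith
    exact_mod_cast mul_left_cancel₀ (show (p : ℤ) ≠ 0 by exact_mod_cast hp'.ne_zero) h2
  rw [← Finset.add_sum_erase _ _ (Finset.mem_univ triv), hatriv, one_mul] at hdeg hfix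
  rw [deg_triv] at hdeg
  rw [hμtriv] at hfix
  have hle : (n * p + 1) * ∑ θ ∈ Finset.univ.erase triv, a θ * μ θ ≤
      (n + 1) * ∑ θ ∈ Finset.univ.erase triv, a θ * deg θ := by
    rw [Finset.mul_sum, Finset.mul_sum]
    refine Finset.sum_le_sum fun θ hθ => ?_
    have := Nat.mul_le_mul_left (a θ) (hcmp θ (Finset.ne_of_mem_erase hθ))
    linarith
  generalize ∑ θ ∈ Finset.univ.erase triv, a θ * μ θ = A at hle hfix
  generalize ∑ θ ∈ Finset.univ.erase triv, a θ * deg θ = B at hle hdeg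
  have het' : t * e + 1 = p := by have := hp'.one_le; omega
  have he1 : 1 ≤ e - 1 := by omega
  have hA : (A : ℤ) = e - 1 := by omega
  have hB : (B : ℤ) = (e : ℤ) ^ 2 - 1 := by
    have : (1 : ℤ) + B = (e : ℤ) ^ 2 := by exact_mod_cast hdeg
    linarith
  have hle' : ((n : ℤ) * p + 1) * ((e : ℤ) - 1) ≤ ((n : ℤ) + 1) * ((e : ℤ) + 1) * ((e : ℤ) - 1) := by
    have : ((n : ℤ) * p + 1) * A ≤ ((n : ℤ) + 1) * B := by exact_mod_cast hle
    rw [hA, hB] at this
    linarith
  have hle2 : (n : ℤ) * p + 1 ≤ ((n : ℤ) + 1) * ((e : ℤ) + 1) :=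
    le_of_mul_le_mul_right hle' (by omega)
  have hp'' : (p : ℤ) = t * e + 1 := by exact_mod_cast het'.symm
  have hn1 : n = 1 := by
    by_contra hne
    have h2 : (2 : ℤ) ≤ n := by omega
    have h3 : (2 : ℤ) * e ≤ t * e := mul_le_mul_of_nonneg_right (by exact_mod_cast ht) (by positivity)
    rw [hp''] at hle2
    nlinarith
  refine ⟨hn1, ?_⟩
  subst hn1
  push_cast at hle2
  by_contra hne
  have h3 : (3 : ℤ) * e ≤ t * e :=
    mul_le_mul_of_nonneg_right (by exact_mod_cast (show 3 ≤ t by omega)) (by positivity)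
  omega

end Cfsg.Agent.SmallGroups.Few
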