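import Cfsg.Agent.Lib.SmallGroups.Few.CaseOne
import Cfsg.Agent.Lib.SmallGroups.Few.Vanish
import Cfsg.Agent.BC86.Vanish

/-!
# Fixed points when the exceptional degree is `(n p + 1) / t`
-/

set_option autoImplicit false

open scoped ComplexConjugate

namespace Cfsg.Agent.SmallGroups.Few

open SelfCent SelfCent.Setup

variable {G : Type*} [Group G] [Fintype G] {p : ℕ} [hp : Fact p.Prime]

theorem Core.b_odd {s : Setup G p} [Fintype s.Orb] [DecidableEq (Cfsg.IrrCharacter G)] {n : ℕ}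
    (C : Core s n) (hp5 : 5 ≤ p) (h : C.D.eps = -1 ∧ C.D.b * Nat.card s.Orb = n * p + 1) :
    ¬ 2 ∣ C.D.b := by
  classical
  obtain ⟨heps, hb⟩ := h
  intro h2
  have hn2 : (2 : ℤ) ∣ ((n * p + 1 : ℕ) : ℤ) := by
    rw [← hb]; exact Int.natCast_dvd_natCast.mpr (dvd_mul_of_dvd_left h2 _)
  have hodd : (p : ℤ) % 2 = 1 := by
    have := hp.out.eq_two_or_odd; omega
  have hR : ∀ χ ∈ C.R, (2 : ℤ) ∣ (deg χ : ℤ) * C.D.c χ := fun χ hχ => by
    refine Dvd.dvd.mul_right ?_ _
    rcases C.deg_R χ hχ with ⟨-, hd⟩ | ⟨-, hd⟩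
    · rw [hd]; exact hn2
    · omega
  have hdeg := C.D.degree_eq
  rw [← Finset.sum_subset (Finset.subset_univ (insert triv C.R)) (fun χ _ hχ => by
    rw [C.zero χ (fun h => hχ (h ▸ Finset.mem_insert_self _ _))
      (fun h => hχ (Finset.mem_insert_of_mem h)), mul_zero]),
    Finset.sum_insert C.triv_not, deg_triv, C.D.c_triv, heps] at hdeg
  have h3 : (2 : ℤ) ∣ ∑ χ ∈ C.R, (deg χ : ℤ) * C.D.c χ := Finset.dvd_sum hR
  have h4 : (2 : ℤ) ∣ (C.D.b : ℤ) := Int.natCast_dvd_natCast.mpr h2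
  push_cast at hdeg
  omega

/-- The number of fixed points, counted in the group. -/
theorem Core.hits_eq {s : Setup G p} [Fintype s.Orb] [DecidableEq (Cfsg.IrrCharacter G)] {n : ℕ}
    (C : Core s n) (hK : s.K = ⊥) (hp5 : 5 ≤ p)
    (hG : Nat.card G = Nat.card s.auto * p * (n * p + 1))
    (h : C.D.eps = -1 ∧ C.D.b * Nat.card s.Orb = n * p + 1) {y : G} (hy1 : y ≠ 1)
    (hy : 2 ∣ orderOf y ∨ (y ∈ s.norm ∧ y ∉ Subgroup.zpowers s.z)) :
    s.hits y = (n + 1) * Nat.card s.norm := by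
  classical
  have hbodd := C.b_odd hp5 h
  obtain ⟨heps, hb⟩ := h
  set e := Nat.card s.auto with hedef
  set t := Nat.card s.Orb with htdef
  have hp' : p.Prime := hp.out
  have hpZ : (p : ℤ) ≠ 0 := by exact_mod_cast hp'.ne_zero
  have het : t * e = p - 1 := s.card_orb_mul
  haveI := Fintype.ofFinite s.norm
  have hncard : Nat.card s.norm = e * p := by
    have h1 := s.card_normalizer
    rw [show Nat.card s.K = 1 by rw [hK, Subgroup.card_bot], mul_one] at h1
    exact h1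
  -- `y` is conjugate to no nontrivial power of `z`
  have hyz : ∀ k : ZMod p, k ≠ 0 → ∀ w ∈ s.K, ¬ IsConj y (s.zp k * w) := by
    intro k hk w hw hc
    rw [hK, Subgroup.mem_bot] at hw
    rw [hw, mul_one] at hc
    obtain ⟨g, hg⟩ := isConj_iff.mp hc
    have hord : orderOf y = p := by
      have h1 : orderOf (s.zp k) = p := BlocksCore.CyclicBlock.orderOf_zp s hk
      rw [← h1, ← hg]
      exact (orderOf_injective (MulAut.conj g).toMonoidHom (MulEquiv.injective _) y).symm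
    rcases hy with h2 | ⟨hN, hnz⟩
    · rw [hord] at h2
      have := hp'.eq_two_or_odd
      omega
    · -- elements of order `p` of the normalizer lie in `⟨z⟩`
      obtain ⟨φ, -, -, hker⟩ := s.exists_act hK
      apply hnz
      apply (hker ⟨y, hN⟩).mp
      have h1 : orderOf (φ ⟨y, hN⟩) ∣ p := by
        refine (orderOf_map_dvd φ _).trans ?_
        rw [Subgroup.orderOf_mk, hord]
      rcases (Nat.dvd_prime hp').mp h1 with h2 | h2
      · exact orderOf_eq_one_iff.mp h2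
      · exfalso
        have h3 : orderOf (φ ⟨y, hN⟩) ≤ e :=
          Nat.le_of_dvd Nat.card_pos (orderOf_dvd_natCard _)
        have : e ≤ t * e := Nat.le_mul_of_pos_left _ Nat.card_pos
        omega
  choose μ hμ hμdeg hμr using fun θ : Cfsg.IrrCharacter G => C.deg_mu hK θ
  have hμplus : ∀ χ ∈ C.R, C.D.c χ = 1 → μ χ = 0 := by
    intro χ hχ hc
    have h1 := hμdeg χ
    rw [if_neg (fun ⟨o', ho'⟩ => C.f_not o' (ho' ▸ hχ)), add_zero, hc, mul_one] at h1
    rcases C.deg_R χ hχ with ⟨hc', -⟩ | ⟨-, hd⟩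
    · omega
    have h3 : (deg χ : ℤ) + 1 = p := by exact_mod_cast hd
    have h2 : (p : ℤ) * μ χ = 0 := by linarith
    rcases mul_eq_zero.mp h2 with h | h
    · exact absurd h hpZ
    · exact_mod_cast h
  -- characters of degree `p - 1` vanish at `y`
  have hvan : ∀ χ ∈ C.R, C.D.c χ = 1 → (χ : G → ℂ) y = 0 := by
    intro χ hχ hc
    rcases hy with h2 | ⟨hN, hnz⟩
    · refine BC86.apply_eq_zero_of_dvd_orderOf Nat.prime_two χ ?_ h2
      rw [← deg_eq_charDegree (p := p)]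
      rcases C.deg_R χ hχ with ⟨hc', -⟩ | ⟨-, hd⟩
      · omega
      have hd' : deg χ = t * e := by omega
      have hte : 0 < t * e := by omega
      have hG' : Nat.card G = t * e * (p * C.D.b) := by rw [hG, ← hb]; ring
      rw [hG', hd', Nat.mul_div_cancel_left _ hte]
      intro h3
      rcases Nat.prime_two.dvd_mul.mp h3 with h4 | h4
      · have := hp'.eq_two_or_odd; omega
      · exact hbodd h4
    · exact s.apply_eq_zero_of_mult_zero hK χ (by rw [hμ χ, hμplus χ hχ hc, Nat.cast_zero]) hN hnz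
  choose m hm hmle using fun χ : Cfsg.IrrCharacter G => s.exists_normFix hK χ
  have hmμ : ∀ χ, m χ ≤ μ χ := fun χ => hmle χ (μ χ) (hμ χ)
  have hN0 : (Nat.card s.norm : ℂ) ≠ 0 := Nat.cast_ne_zero.mpr Nat.card_pos.ne'
  have hmtriv : m triv = 1 := by
    have h1 := hm triv
    simp only [triv, Pi.one_apply, Finset.sum_const, Finset.card_univ, nsmul_eq_mul, mul_one,
      ← Nat.card_eq_fintype_card] at h1
    have h2 := mul_left_cancel₀ hN0 (by rw [← h1, mul_one] : (Nat.card s.norm : ℂ) * (1 : ℂ) = _)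
    exact_mod_cast h2.symm
  -- the identity at `1`
  have hsum1 : ∑ χ : Cfsg.IrrCharacter G, deg χ * m χ = n * p + 1 := by
    have h1 := s.sum_apply_mul_normFix 1 m hm
    have h2 : s.hits 1 = Nat.card G := by
      simp [hits, Nat.card_eq_fintype_card, one_mem]
    rw [h2, hG] at h1
    simp only [(deg_spec _).2.2] at h1
    have h3 : Nat.card s.norm * ∑ χ : Cfsg.IrrCharacter G, deg χ * m χ =
        e * p * (n * p + 1) := by exact_mod_cast h1
    rw [hncard] at h3
    exact Nat.eq_of_mul_eq_mul_left (Nat.mul_pos Nat.card_pos hp'.pos) h3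
  set O := (Finset.univ.erase triv) \ (C.R ∪ Finset.univ.image C.D.f) with hO
  have hdisj : Disjoint C.R (Finset.univ.image C.D.f) := by
    rw [Finset.disjoint_left]
    intro χ hχ hχ'
    obtain ⟨o, -, rfl⟩ := Finset.mem_image.mp hχ'
    exact C.f_not o hχ
  have hsub : C.R ∪ Finset.univ.image C.D.f ⊆ Finset.univ.erase triv := by
    intro χ hχ
    refine Finset.mem_erase.mpr ⟨fun h => ?_, Finset.mem_univ _⟩
    subst h
    rcases Finset.mem_union.mp hχ with h | h
    · exact C.triv_not h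
    · obtain ⟨o, -, ho⟩ := Finset.mem_image.mp h
      exact C.D.triv_ne o ho
  have hsplit : ∀ {A : Type} [AddCommMonoid A] (F : Cfsg.IrrCharacter G → A),
      ∑ χ, F χ = F triv + ((∑ χ ∈ C.R, F χ + ∑ o, F (C.D.f o)) + ∑ χ ∈ O, F χ) := by
    intro A _ F
    rw [← Finset.add_sum_erase _ F (Finset.mem_univ triv)]
    congr 1
    rw [← Finset.sum_sdiff hsub, ← hO, add_comm, Finset.sum_union hdisj,
      Finset.sum_image fun a _ b _ h => C.D.inj h]
  have hOspec : ∀ χ ∈ O, χ ≠ triv ∧ χ ∉ C.R ∧ ¬ ∃ o, χ = C.D.f o := fun χ hχ => by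
    simp only [hO, Finset.mem_sdiff, Finset.mem_erase, Finset.mem_union, Finset.mem_image,
      Finset.mem_univ, true_and, and_true, not_or, not_exists] at hχ
    exact ⟨hχ.1, hχ.2.1, fun ⟨o, ho⟩ => hχ.2.2 o ho.symm⟩
  have hOdeg : ∀ χ ∈ O, deg χ = p * μ χ := by
    intro χ hχ
    obtain ⟨h1, h2, h3⟩ := hOspec χ hχ
    have h4 := hμdeg χ
    rw [C.zero χ h1 h2, if_neg h3, mul_zero, add_zero, add_zero] at h4
    exact_mod_cast h4
  rw [hsplit, hmtriv, deg_triv, one_mul] at hsum1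
  have hmR : ∀ χ ∈ C.R, m χ = 0 := by
    intro χ hχ
    rcases C.deg_R χ hχ with ⟨-, hd⟩ | ⟨hc, -⟩
    · by_contra hne
      have h1 := Finset.single_le_sum (f := fun χ => deg χ * m χ) (fun _ _ => Nat.zero_le _) hχ
      have h2 : deg χ ≤ deg χ * m χ := Nat.le_mul_of_pos_right _ (Nat.pos_of_ne_zero hne)
      omega
    · exact Nat.le_zero.mp ((hmμ χ).trans (hμplus χ hχ hc).le)
  have hmf : ∀ o, m (C.D.f o) = 0 := by
    intro o
    set S := ∑ o, m (C.D.f o) with hS
    have hfb : ∑ o, deg (C.D.f o) * m (C.D.f o) = C.D.b * S := by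
      rw [hS, Finset.mul_sum]; exact Finset.sum_congr rfl fun o _ => by rw [C.D.deg_f]
    have hpO : p ∣ ∑ χ ∈ O, deg χ * m χ :=
      Finset.dvd_sum fun χ hχ => Dvd.dvd.mul_right (by rw [hOdeg χ hχ]; exact dvd_mul_right _ _) _
    rw [Finset.sum_eq_zero (fun χ hχ => by rw [hmR χ hχ, mul_zero]), zero_add, hfb] at hsum1
    have hpS : p ∣ C.D.b * S := by
      obtain ⟨c, hc⟩ := hpO
      rw [hc] at hsum1
      exact (Nat.dvd_add_left (dvd_mul_right p c)).mp ⟨n, by rw [mul_comm p n]; omega⟩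
    have hpb : ¬ p ∣ C.D.b := fun h => hp'.not_dvd_one
      ((Nat.dvd_add_right (dvd_mul_left p n)).mp (hb ▸ h.mul_right t))
    have hpS' : p ∣ S := (hp'.dvd_mul.mp hpS).resolve_left hpb
    have hS0 : S = 0 := by
      by_contra h0
      have h1 := Nat.le_of_dvd (Nat.pos_of_ne_zero h0) hpS'
      have h2 : C.D.b * p ≤ C.D.b * S := Nat.mul_le_mul_left _ h1
      have h3 : C.D.b * t ≤ C.D.b * p :=
        Nat.mul_le_mul_left _ (le_trans (Nat.le_mul_of_pos_right t Nat.card_pos)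
          (by rw [het]; omega))
      omega
    exact Finset.sum_eq_zero_iff.mp hS0 o (Finset.mem_univ _)
  rw [Finset.sum_eq_zero (fun χ hχ => by rw [hmR χ hχ, mul_zero]),
    Finset.sum_eq_zero (fun o _ => by rw [hmf o, mul_zero]), zero_add, zero_add] at hsum1
  have hum : ∑ χ ∈ O, μ χ * m χ = n := by
    have h1 : ∑ χ ∈ O, deg χ * m χ = p * ∑ χ ∈ O, μ χ * m χ := by
      rw [Finset.mul_sum]
      exact Finset.sum_congr rfl fun χ hχ => by rw [hOdeg χ hχ, mul_assoc]
    rw [h1] at hsum1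
    have h2 : p * ∑ χ ∈ O, μ χ * m χ = p * n := by rw [mul_comm p n]; omega
    exact Nat.eq_of_mul_eq_mul_left hp'.pos h2
  -- the squares
  set k := (C.R.filter fun χ => C.D.c χ = -1).card with hkdef
  set l := (C.R.filter fun χ => ¬ C.D.c χ = -1).card with hldef
  have hkl : (k : ℤ) + l + 1 = e := by
    rw [hedef, ← C.card_R, ← Finset.card_filter_add_card_filter_not (s := C.R)
      (fun χ => C.D.c χ = -1)]
    push_cast
    rfl
  have hRsum : ∀ F : Cfsg.IrrCharacter G → ℤ, ∀ a b : ℤ,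
      (∀ χ ∈ C.R, C.D.c χ = -1 → F χ = a) → (∀ χ ∈ C.R, ¬ C.D.c χ = -1 → F χ = b) →
      ∑ χ ∈ C.R, F χ = k * a + l * b := by
    intro F a b ha hb'
    rw [← Finset.sum_filter_add_sum_filter_not C.R (fun χ => C.D.c χ = -1),
      Finset.sum_congr rfl (fun χ hχ => ha χ (Finset.mem_filter.mp hχ).1 (Finset.mem_filter.mp hχ).2),
      Finset.sum_congr rfl (fun χ hχ => hb' χ (Finset.mem_filter.mp hχ).1 (Finset.mem_filter.mp hχ).2),
      Finset.sum_const, Finset.sum_const, nsmul_eq_mul, nsmul_eq_mul]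
  have hdm : ∀ χ ∈ C.R, C.D.c χ = -1 → deg χ = n * p + 1 := fun χ hχ hc => by
    rcases C.deg_R χ hχ with ⟨-, hd⟩ | ⟨hc', -⟩
    · exact hd
    · omega
  have hdp : ∀ χ ∈ C.R, ¬ C.D.c χ = -1 → C.D.c χ = 1 ∧ (deg χ : ℤ) = p - 1 := fun χ hχ hc => by
    rcases C.deg_R χ hχ with ⟨hc', -⟩ | ⟨hc', hd⟩
    · exact absurd hc' hc
    · refine ⟨hc', ?_⟩
      have : (deg χ : ℤ) + 1 = p := by exact_mod_cast hd
      linarith
  have hbZ : (C.D.b : ℤ) * t = n * p + 1 := by exact_mod_cast hb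
  have hetZ : (t : ℤ) * e = p - 1 := by
    rw [← Nat.cast_mul, het, Nat.cast_sub hp'.one_le]; rfl
  have hdegE : -1 - (k : ℤ) * (n * p + 1) + l * (p - 1) - C.D.b = 0 := by
    have hdeg := C.D.degree_eq
    rw [hsplit, deg_triv, C.D.c_triv, heps,
      Finset.sum_eq_zero (s := O) (fun χ hχ => by
        rw [C.zero χ (hOspec χ hχ).1 (hOspec χ hχ).2.1, mul_zero]),
      Finset.sum_eq_zero (s := Finset.univ) (fun o _ => by rw [C.D.c_f, C.d_eq, mul_zero]),
      hRsum _ (-(n * p + 1)) ((p : ℤ) - 1)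
        (fun χ hχ hc => by rw [hdm χ hχ hc, hc]; push_cast; ring)
        (fun χ hχ hc => by rw [(hdp χ hχ hc).1, (hdp χ hχ hc).2, mul_one])] at hdeg
    push_cast at hdeg
    linarith
  have hsq : ∑ χ : Cfsg.IrrCharacter G, (deg χ : ℤ) * deg χ = Nat.card G := by
    have h1 := CharCore.sum_degree_sq (G := G)
    simp only [(deg_spec _).2.2, sq] at h1
    exact_mod_cast h1
  have huu : ∑ χ ∈ O, (μ χ : ℤ) * μ χ = n := by
    rw [hsplit, deg_triv,
      hRsum _ (((n * p + 1 : ℤ)) * (n * p + 1)) (((p : ℤ) - 1) * ((p : ℤ) - 1))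
        (fun χ hχ hc => by rw [hdm χ hχ hc]; push_cast; ring)
        (fun χ hχ hc => by rw [(hdp χ hχ hc).2]),
      Finset.sum_congr rfl (fun o _ => by rw [C.D.deg_f]), Finset.sum_const, Finset.card_univ,
      ← Nat.card_eq_fintype_card, nsmul_eq_mul,
      Finset.sum_congr (s₁ := O) rfl (g := fun χ => (p : ℤ) * p * ((μ χ : ℤ) * μ χ))
        (fun χ hχ => by rw [hOdeg χ hχ]; push_cast; ring),
      ← Finset.mul_sum, hG] at hsq
    push_cast at hsq
    generalize ∑ χ ∈ O, (μ χ : ℤ) * μ χ = U at hsq ⊢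
    have hp2 : (p : ℤ) * p ≠ 0 := mul_ne_zero hpZ hpZ
    apply mul_left_cancel₀ hp2
    have ht0 : (t : ℤ) ≠ 0 := by exact_mod_cast (Nat.card_pos (α := s.Orb)).ne'
    apply mul_left_cancel₀ ht0
    grind
  have hueq : ∀ χ ∈ O, m χ = μ χ := by
    intro χ hχ
    have h1 : ∑ χ ∈ O, ((μ χ : ℤ) * μ χ - (μ χ : ℤ) * m χ) = 0 := by
      rw [Finset.sum_sub_distrib, huu]
      have : ∑ χ ∈ O, (μ χ : ℤ) * m χ = n := by exact_mod_cast hum
      rw [this, sub_self]
    have h2 := (Finset.sum_eq_zero_iff_of_nonneg (fun χ _ => by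
      have : (m χ : ℤ) ≤ μ χ := by exact_mod_cast hmμ χ
      nlinarith)).mp h1 χ hχ
    have hpos : μ χ ≠ 0 := fun h0 => by
      have h4 := (deg_spec χ).1
      rw [hOdeg χ hχ, h0, mul_zero] at h4
      exact absurd h4 (lt_irrefl 0)
    have h3 : (μ χ : ℤ) * (μ χ - m χ) = 0 := by rw [mul_sub]; exact h2
    rcases mul_eq_zero.mp h3 with h | h
    · exact absurd (by exact_mod_cast h) hpos
    · omega
  -- the identity at `y`
  have hmain := s.sum_apply_mul_normFix y m hm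
  rw [hsplit, hmtriv, Finset.sum_eq_zero (fun χ hχ => by rw [hmR χ hχ, Nat.cast_zero, mul_zero]),
    Finset.sum_eq_zero (fun o _ => by rw [hmf o, Nat.cast_zero, mul_zero]), zero_add, zero_add,
    Finset.sum_congr rfl (fun χ hχ => by rw [hueq χ hχ])] at hmain
  simp only [triv, Pi.one_apply, one_mul, Nat.cast_one] at hmain
  set A := ∑ χ ∈ C.R.filter (fun χ => C.D.c χ = -1), (χ : G → ℂ) y with hA
  have hzeroL : ∀ F : Cfsg.IrrCharacter G → ℂ, (∀ χ ∈ C.R, C.D.c χ = 1 → F χ = 0) →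
      ∑ χ ∈ C.R, F χ = ∑ χ ∈ C.R.filter (fun χ => C.D.c χ = -1), F χ := by
    intro F hF
    rw [Finset.sum_filter_of_ne]
    intro χ hχ hne
    rcases C.deg_R χ hχ with ⟨hc, -⟩ | ⟨hc, -⟩
    · exact hc
    · exact absurd (hF χ hχ hc) hne
  have hfy : ∀ o, (C.D.f o : G → ℂ) y = -1 - A := by
    intro o
    have h1 := C.D.value_eq hyz o
    rw [hsplit, C.D.c_triv, heps, Finset.sum_eq_zero (s := O) (fun χ hχ => by
        rw [C.zero χ (hOspec χ hχ).1 (hOspec χ hχ).2.1, Int.cast_zero, mul_zero]),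
      Finset.sum_eq_zero (s := Finset.univ) (fun o _ => by
        rw [C.D.c_f, C.d_eq, Int.cast_zero, mul_zero]),
      hzeroL _ (fun χ hχ hc => by rw [hvan χ hχ hc, zero_mul]),
      Finset.sum_congr rfl (g := fun χ : Cfsg.IrrCharacter G => -((χ : G → ℂ) y))
        (fun χ hχ => by rw [(Finset.mem_filter.mp hχ).2]; push_cast; ring),
      Finset.sum_neg_distrib] at h1
    simp only [triv, Pi.one_apply, one_mul, Int.cast_neg, Int.cast_one, neg_one_mul, add_zero,
      ← hA] at h1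
    linear_combination -h1
  have hU : ∑ χ ∈ O, (χ : G → ℂ) y * (μ χ : ℂ) = n := by
    have h1 : ∑ χ : Cfsg.IrrCharacter G, (χ : G → ℂ) y * (deg χ : ℂ) = 0 := by
      have h2 := CharCore.sum_apply_mul_conj y (1 : G)
      rw [if_neg (fun h => hy1 (isConj_one_left.mp h))] at h2
      simpa [(deg_spec _).2.2] using h2
    rw [hsplit, hzeroL _ (fun χ hχ hc => by rw [hvan χ hχ hc, zero_mul]),
      Finset.sum_congr rfl (g := fun χ : Cfsg.IrrCharacter G => (χ : G → ℂ) y * ((n : ℂ) * p + 1))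
        (fun χ hχ => by
          rw [hdm χ (Finset.mem_filter.mp hχ).1 (Finset.mem_filter.mp hχ).2]; push_cast; ring),
      ← Finset.sum_mul, ← hA, Finset.sum_congr rfl (fun o _ => by rw [hfy o, C.D.deg_f]),
      Finset.sum_const, Finset.card_univ, ← Nat.card_eq_fintype_card, nsmul_eq_mul,
      Finset.sum_congr (s₁ := O) rfl (g := fun χ => ((χ : G → ℂ) y * (μ χ : ℂ)) * p)
        (fun χ hχ => by rw [hOdeg χ hχ]; push_cast; ring),
      ← Finset.sum_mul, deg_triv] at h1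
    simp only [triv, Pi.one_apply, Nat.cast_one, one_mul] at h1
    have hbC : (C.D.b : ℂ) * t = n * p + 1 := by exact_mod_cast hb
    apply mul_right_cancel₀ (Nat.cast_ne_zero.mpr hp'.ne_zero : (p : ℂ) ≠ 0)
    linear_combination h1 + (1 + A) * hbC
  rw [hU] at hmain
  have h9 : ((s.hits y : ℕ) : ℂ) = (((n + 1) * Nat.card s.norm : ℕ) : ℂ) := by
    rw [← hmain]; push_cast; ring
  exact_mod_cast h9

end Cfsg.Agent.SmallGroups.Few
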