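import Cfsg.Agent.Lib.SmallGroups.SelfCent.Normal

/-!
# Fixed multiplicities at the normalizer
-/

set_option autoImplicit false

open scoped ComplexConjugate

namespace Cfsg.Agent.SmallGroups.SelfCent

namespace Setup

variable {G : Type*} [Group G] [Fintype G] {p : ℕ} [hp : Fact p.Prime] (s : Setup G p)

/-- For `K = 1` the degree is read off from the fixed multiplicity and the vector. -/
theorem exists_mu (hK : s.K = ⊥) [Fintype s.Orb] (χ : Cfsg.IrrCharacter G) :
    ∃ μ : ℕ, s.mult (χ : G → ℂ) 0 = μ ∧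
      (deg χ : ℤ) = (p : ℤ) * μ + (Nat.card s.auto : ℤ) * ∑ o, s.vecO χ o ∧
      ∀ r, s.mult (χ : G → ℂ) r = ((μ : ℤ) + s.vec χ r : ℤ) := by
  classical
  obtain ⟨μ, hμ⟩ := s.mult_eq_natCast (CharCore.irr_isCharacter χ) 0
  have hr : ∀ r, s.mult (χ : G → ℂ) r = ((μ : ℤ) + s.vec χ r : ℤ) := fun r => by
    push_cast
    rw [vec_spec, vecC_eq_sub, hμ]
    ring
  refine ⟨μ, hμ, ?_, hr⟩
  have hsum : (Nat.card s.auto : ℤ) * ∑ o, s.vecO χ o = ∑ r : ZMod p, s.vec χ r := by
    have h0 : s.vec χ 0 = 0 := by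
      apply Int.cast_injective (α := ℂ)
      rw [vec_spec, vecC_eq_sub, sub_self, Int.cast_zero]
    rw [← nsmul_eq_mul, ← s.sum_units_eq (fun o => s.vecO χ o),
      ← Finset.add_sum_erase _ _ (Finset.mem_univ (0 : ZMod p)), h0, zero_add]
    refine Finset.sum_nbij (fun r : (ZMod p)ˣ => (r : ZMod p))
      (fun r _ => Finset.mem_erase.mpr ⟨r.ne_zero, Finset.mem_univ _⟩)
      (fun _ _ _ _ h => Units.ext h) (fun r hr => ?_) (fun r _ => (s.vec_eq_vecO χ r).symm)
    exact ⟨Units.mk0 r (Finset.ne_of_mem_erase hr), Finset.mem_univ _, rfl⟩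
  have h := s.phi_zero_of_bot hK χ
  rw [s.phi_eq_sum_mult, (deg_spec χ).2.2] at h
  simp only [mul_zero, AddChar.map_zero_eq_one, mul_one, hr] at h
  rw [← Int.cast_sum] at h
  have h' : (deg χ : ℤ) = ∑ r : ZMod p, ((μ : ℤ) + s.vec χ r) := by exact_mod_cast h.symm
  rw [h', hsum, Finset.sum_add_distrib, Finset.sum_const, Finset.card_univ, ZMod.card,
    nsmul_eq_mul]

/-- The normalizer of `⟨z⟩`. -/
abbrev norm : Subgroup G := Subgroup.normalizer ((Subgroup.zpowers s.z : Subgroup G) : Set G)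

open scoped Classical in
/-- The number of group elements conjugating `y` into the normalizer. -/
noncomputable def hits (y : G) : ℕ := (Finset.univ.filter fun g : G => g * y * g⁻¹ ∈ s.norm).card

/-- The multiplicity of the trivial character of the normalizer. -/
theorem exists_normFix (hK : s.K = ⊥) (χ : Cfsg.IrrCharacter G) [Fintype s.norm] :
    ∃ m : ℕ, (∑ x : s.norm, (χ : G → ℂ) (x : G)) = (Nat.card s.norm : ℂ) * m ∧
      ∀ μ : ℕ, s.mult (χ : G → ℂ) 0 = μ → m ≤ μ := by
  classical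
  have hres : Cfsg.IsCharacter s.norm fun x : s.norm => (χ : G → ℂ) (x : G) :=
    CharCore.isCharacter_comp (CharCore.irr_isCharacter χ) s.norm.subtype
  have hone : Cfsg.IsCharacter s.norm (1 : s.norm → ℂ) :=
    CharCore.IsIrrCharacter.isCharacter CharCore.isIrrCharacter_one
  obtain ⟨a, ha⟩ := CharCore.IsCharacter.exists_sum hres
  set τ : Cfsg.IrrCharacter s.norm := ⟨1, CharCore.isIrrCharacter_one⟩ with hτ
  have hN : (Nat.card s.norm : ℂ) ≠ 0 := Nat.cast_ne_zero.mpr Nat.card_pos.ne'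
  -- restriction to the subgroup of order `p`
  have hz : ∀ k : ZMod p, s.zp k ∈ s.norm := fun k =>
    Subgroup.le_normalizer (pow_mem (Subgroup.mem_zpowers s.z) _)
  let ι : Multiplicative (ZMod p) →* s.norm :=
    { toFun := fun k => ⟨s.zp k.toAdd, hz _⟩
      map_one' := Subtype.ext (by simp [s.zp_zero])
      map_mul' := fun a b => Subtype.ext (by simp [s.zp_add]) }
  have hq : ∀ θ : Cfsg.IrrCharacter s.norm, ∃ q : ℕ,
      ∑ k : ZMod p, (θ : s.norm → ℂ) ⟨s.zp k, hz k⟩ = (p : ℂ) * q := by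
    intro θ
    obtain ⟨q, hq⟩ := CharCore.IsCharacter.exists_classInner_eq_natCast
      (CharCore.isCharacter_comp (CharCore.irr_isCharacter θ) ι)
      (CharCore.IsIrrCharacter.isCharacter (CharCore.isIrrCharacter_one
        (G := Multiplicative (ZMod p))))
    refine ⟨q, ?_⟩
    have hp0 : (p : ℂ) ≠ 0 := Nat.cast_ne_zero.mpr hp.out.ne_zero
    rw [← hq, Cfsg.classInner, Nat.card_congr Multiplicative.toAdd, Nat.card_zmod,
      mul_inv_cancel_left₀ hp0]
    refine Fintype.sum_equiv Multiplicative.ofAdd _ _ fun k => ?_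
    simp only [Pi.one_apply, map_one, mul_one, Function.comp_apply]
    rfl
  choose q hq using hq
  have hqτ : q τ = 1 := by
    have h := hq τ
    simp [hτ, hp.out.ne_zero] at h
    exact h
  refine ⟨a τ, ?_, fun μ hμ => ?_⟩
  · have h : Cfsg.classInner (fun x : s.norm => (χ : G → ℂ) (x : G)) (τ : s.norm → ℂ) = a τ := by
      rw [ha]
      simp only [CharCore.classInner_sum_left, CharCore.classInner_smul_left,
        CharCore.classInner_irr]
      simp
    rw [← h, Cfsg.classInner, mul_inv_cancel_left₀ hN]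
    simp [hτ]
  · have hk : s.kset = {1} := by ext w; simp [s.mem_kset, hK]
    have hμ' : ∑ k : ZMod p, (χ : G → ℂ) (s.zp k) = (p : ℂ) * μ := by
      have hp0 : (p : ℂ) ≠ 0 := Nat.cast_ne_zero.mpr hp.out.ne_zero
      rw [← hμ, mult, mul_inv_cancel_left₀ hp0]
      simp [phi, hk]
    have hexp : ∀ k : ZMod p, (χ : G → ℂ) (s.zp k) =
        ∑ θ, (a θ : ℂ) * (θ : s.norm → ℂ) ⟨s.zp k, hz k⟩ := fun k => by
      have := congrFun ha ⟨s.zp k, hz k⟩
      simpa using this
    rw [Finset.sum_congr rfl fun k _ => hexp k, Finset.sum_comm,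
      Finset.sum_congr rfl fun θ _ => by rw [← Finset.mul_sum, hq θ]] at hμ'
    have hμn : ∑ θ, a θ * q θ = μ := by
      have h2 : ((∑ θ, a θ * q θ : ℕ) : ℂ) * p = (μ : ℂ) * p := by
        rw [mul_comm (μ : ℂ) _, ← hμ']
        push_cast
        rw [Finset.sum_mul]
        exact Finset.sum_congr rfl fun θ _ => by ring
      exact_mod_cast mul_right_cancel₀ (Nat.cast_ne_zero.mpr hp.out.ne_zero) h2
    calc a τ = a τ * q τ := by rw [hqτ, mul_one]
      _ ≤ ∑ θ, a θ * q θ := Finset.single_le_sum (f := fun θ => a θ * q θ)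
          (fun _ _ => Nat.zero_le _) (Finset.mem_univ τ)
      _ = μ := hμn

/-- The counting identity of the permutation character on the conjugates of `⟨z⟩`. -/
theorem sum_apply_mul_normFix (y : G) [Fintype s.norm] (m : Cfsg.IrrCharacter G → ℕ)
    (hm : ∀ χ : Cfsg.IrrCharacter G,
      (∑ x : s.norm, (χ : G → ℂ) (x : G)) = (Nat.card s.norm : ℂ) * m χ) :
    (Nat.card s.norm : ℂ) * ∑ χ : Cfsg.IrrCharacter G, (χ : G → ℂ) y * m χ = (s.hits y : ℂ) := by
  classical
  have hconj : ∀ χ : Cfsg.IrrCharacter G,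
      (Nat.card s.norm : ℂ) * m χ = ∑ x : s.norm, conj ((χ : G → ℂ) (x : G)) := fun χ => by
    rw [← map_sum, hm χ, map_mul, Complex.conj_natCast, Complex.conj_natCast]
  have h1 : (Nat.card s.norm : ℂ) * ∑ χ : Cfsg.IrrCharacter G, (χ : G → ℂ) y * m χ =
      ∑ x : s.norm, ∑ χ : Cfsg.IrrCharacter G, (χ : G → ℂ) y * conj ((χ : G → ℂ) (x : G)) := by
    rw [Finset.sum_comm, Finset.mul_sum]
    refine Finset.sum_congr rfl fun χ _ => ?_
    rw [← Finset.mul_sum, ← hconj χ]
    ring
  rw [h1]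
  simp only [CharCore.sum_apply_mul_conj]
  rw [hits]
  have h2 := sum_isConj_mul_card y (Finset.univ.filter fun g : G => g ∈ s.norm)
  simp only [Finset.mem_filter, Finset.mem_univ, true_and] at h2
  rw [← h2, Nat.cast_sum,
    Finset.sum_subtype (p := fun g => g ∈ s.norm)
      (Finset.univ.filter fun g : G => g ∈ s.norm) (fun g => by simp)]
  exact Finset.sum_congr rfl fun x _ => by split_ifs <;> simp

end Setup

end Cfsg.Agent.SmallGroups.SelfCent
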