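import Mathlib.Tactic.Linarith
import Mathlib.Tactic.Ring
import Mathlib.Tactic.LinearCombination
import Mathlib.Data.Int.Order.Basic

/-!
# Brauer's representations `n (u + 1) = h u p + u² + u + h`
-/

set_option autoImplicit false

namespace Cfsg.Agent.SmallGroups.Few

/-- `n` is not of the form `(h u p + u² + u + h) / (u + 1)`. -/
def NF (p n : ℕ) : Prop :=
  ∀ h u : ℕ, 0 < h → 0 < u → n * (u + 1) ≠ h * u * p + u ^ 2 + u + h

theorem NF_of_lt {p n : ℕ} (hn : 2 * n < p + 3) : NF p n := by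
  intro h u hh hu he
  have h1 : 1 * u * p + u ^ 2 + u + 1 ≤ h * u * p + u ^ 2 + u + h := by gcongr <;> omega
  have h2 : 2 * n * (u + 1) ≤ (p + 2) * (u + 1) := Nat.mul_le_mul_right _ (by omega)
  have h3 : p ≤ u * p := Nat.le_mul_of_pos_left p hu
  nlinarith

theorem NF.false_of_int {p n : ℕ} (hnf : NF p n) {H U : ℤ} (hH : 0 < H) (hU : 0 < U)
    (h : (n : ℤ) * (U + 1) = H * U * p + U ^ 2 + U + H) : False := by
  lift H to ℕ using hH.le
  lift U to ℕ using hU.le
  exact hnf H U (by exact_mod_cast hH) (by exact_mod_cast hU) (by exact_mod_cast h)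

/-- A divisor `x p + 1` of `e (n p + 1)` with cofactor `v p + e` gives a representation. -/
theorem NF.false_of_plus {p n : ℕ} (hnf : NF p n) {e t x v : ℤ} (he : 0 < e)
    (hp : e * t + 1 = p) (hx : 1 ≤ x) (hv : 1 ≤ v)
    (h : e * n = e * x + v * (x * p + 1)) : False := by
  have hh : e * ((n : ℤ) - x - v * x * t) = v * (x + 1) := by
    linear_combination h - (v * x) * hp
  have hH : 0 < (n : ℤ) - x - v * x * t := by nlinarith
  refine hnf.false_of_int hH (show 0 < x by omega) ?_
  apply mul_left_cancel₀ he.ne'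
  linear_combination (x + 1) * h - (x * (p : ℤ) + 1) * hh

/-- A divisor `x p - 1` of `e (n p + 1)`, `2 ≤ x`, gives a representation unless `v t = 1`. -/
theorem NF.false_of_minus {p n : ℕ} (hnf : NF p n) {e t x v : ℤ} (he : 0 < e) (ht : 0 < t)
    (hp : e * t + 1 = p) (hx : 2 ≤ x) (hv : 1 ≤ v) (hne : ¬ (v = 1 ∧ t = 1))
    (h : e * ((n : ℤ) + x) = v * (x * p - 1)) : False := by
  have hh : e * ((n : ℤ) + x - v * x * t) = v * (x - 1) := by
    linear_combination h - (v * x) * hp
  have hH : 0 < (n : ℤ) + x - v * x * t := by nlinarith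
  have hU : 0 < v * t - 1 := by
    rcases lt_or_eq_of_le hv with h1 | h1
    · nlinarith
    · rcases lt_or_eq_of_le (show 1 ≤ t from ht) with h2 | h2
      · nlinarith
      · exact absurd ⟨h1.symm, h2.symm⟩ hne
  refine hnf.false_of_int hH hU ?_
  apply mul_left_cancel₀ he.ne'
  linear_combination (v * t) * h - ((v * t - 1) * (p : ℤ) + 1) * hh -
    (v ^ 2 * t + v * (x - 1)) * hp

end Cfsg.Agent.SmallGroups.Few
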