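import Cfsg.Agent.Lib.SmallGroups.Few.Arith
import Cfsg.Agent.Lib.SmallGroups.Few.NF
import Cfsg.Agent.Lib.SmallGroups.Few.Data
import Cfsg.Agent.Lib.SmallGroups.Few.Fix
import Cfsg.Agent.Lib.SmallGroups.SelfCent.Two
import Cfsg.Agent.BC86.Modular

/-!
# The degrees in the principal block for few Sylow subgroups
-/

set_option autoImplicit false

namespace Cfsg.Agent.SmallGroups.Few

open SelfCent SelfCent.Setup

variable {G : Type*} [Group G] [Fintype G] {p : ℕ} [hp : Fact p.Prime]

/-- The principal block data of a self-centralising subgroup of order `p` with `n p + 1`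
conjugates, `n` not of Brauer's form. -/
structure Core (s : Setup G p) [Fintype s.Orb] [DecidableEq (Cfsg.IrrCharacter G)] (n : ℕ) where
  D : s.Data
  R : Finset (Cfsg.IrrCharacter G)
  d_eq : D.d = 0
  card_R : R.card + 1 = Nat.card s.auto
  triv_not : triv ∉ R
  f_not : ∀ o, D.f o ∉ R
  zero : ∀ χ, χ ≠ triv → χ ∉ R → D.c χ = 0
  deg_R : ∀ χ ∈ R, (D.c χ = -1 ∧ deg χ = n * p + 1) ∨ (D.c χ = 1 ∧ deg χ + 1 = p)
  cases : (D.eps = 1 ∧ D.b = Nat.card s.auto ∧ 2 ≤ Nat.card s.Orb) ∨
    (D.eps = -1 ∧ D.b * Nat.card s.Orb = n * p + 1)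

/-- The index of `⟨z⟩` is prime to `p`. -/
theorem not_dvd_index (s : Setup G p) (n : ℕ) (hG : Nat.card G = Nat.card s.auto * p * (n * p + 1))
    (hep : Nat.card s.auto < p) : ¬ p ∣ (Subgroup.zpowers s.z).index := by
  have hp' : p.Prime := Fact.out
  have h := Subgroup.card_mul_index (Subgroup.zpowers s.z)
  rw [Nat.card_zpowers, s.orderOf_z, hG] at h
  have hi : (Subgroup.zpowers s.z).index = Nat.card s.auto * (n * p + 1) :=
    Nat.eq_of_mul_eq_mul_left hp'.pos (by rw [h]; ring)
  rw [hi, hp'.dvd_mul, not_or]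
  refine ⟨fun h => ?_, fun h => ?_⟩
  · have := Nat.le_of_dvd Nat.card_pos h; omega
  · have : p ∣ 1 := (Nat.dvd_add_right (dvd_mul_left p n)).mp h
    exact hp'.not_dvd_one this

theorem exists_core [IsSimpleGroup G] (hne : ¬ IsMulCommutative G) (s : Setup G p)
    [Fintype s.Orb] [DecidableEq (Cfsg.IrrCharacter G)] (hK : s.K = ⊥) {n : ℕ}
    (hp3 : 3 ≤ p) (hG : Nat.card G = Nat.card s.auto * p * (n * p + 1)) (hn1 : 1 ≤ n)
    (hnf : NF p n) (he : 2 ≤ Nat.card s.auto) : Nonempty (Core s n) := by
  classical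
  set e := Nat.card s.auto with hedef
  set t := Nat.card s.Orb with htdef
  have hp' : p.Prime := Fact.out
  have htpos : 0 < t := Nat.card_pos
  have het : t * e = p - 1 := s.card_orb_mul
  have hep : e < p := by
    have : e ≤ t * e := Nat.le_mul_of_pos_left _ htpos
    omega
  have hidx := not_dvd_index s n hG hep
  obtain ⟨M, hM⟩ := BC86.exists_isPModular hp'
  obtain ⟨D, hd, hfB, ht1⟩ := s.exists_data_zero hM hidx (by omega)
  obtain ⟨R, hR1, hR2, hR3, hR4, hb, hR5⟩ := D.exists_rest hM hidx hd hfB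
  have hM0 : Nat.card G / p = e * (n * p + 1) := by
    rw [hG, show e * p * (n * p + 1) = e * (n * p + 1) * p by ring,
      Nat.mul_div_cancel _ hp'.pos]
  have hetZ : (e : ℤ) * t + 1 = p := by
    have : e * t + 1 = p := by rw [mul_comm, het]; omega
    exact_mod_cast this
  have hp5' : (3 : ℤ) ≤ p := by exact_mod_cast hp3
  have heZ : (0 : ℤ) < e := by exact_mod_cast (show 0 < e by omega)
  have htZ : (0 : ℤ) < t := by exact_mod_cast htpos
  have hn1Z : (1 : ℤ) ≤ n := by exact_mod_cast hn1
  have hpZ : (p : ℤ) ≠ 0 := by omega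
  have hepZ : (e : ℤ) < p := by exact_mod_cast hep
  have hsq : ∀ χ, (∀ o, D.f o ≠ χ) → (deg χ : ℤ) ^ 2 ≤ (Nat.card G : ℤ) := by
    intro χ hχ
    have h := D.sum_sq_le {χ} (fun o => by simpa using hχ o)
    rw [Finset.sum_singleton] at h
    have h' : deg χ ^ 2 ≤ Nat.card G := le_trans (Nat.le_add_right _ _) h
    exact_mod_cast h'
  have hGZ : (Nat.card G : ℤ) = e * p * (n * p + 1) := by rw [hG]; push_cast; ring
  have hdegR : ∀ χ ∈ R, (D.c χ = -1 ∧ deg χ = n * p + 1) ∨ (D.c χ = 1 ∧ deg χ + 1 = p) := by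
    intro χ hχ
    obtain ⟨hc, -, hmod⟩ := hR4 χ hχ
    have hnot : ∀ o, χ ≠ D.f o := fun o h => hR3 o (h ▸ hχ)
    have hne1 : deg χ ≠ 1 := fun h => hR2 ((deg_eq_one_iff hne χ).mp h ▸ hχ)
    have hdpos := (deg_spec χ).1
    have hdvd : (deg χ : ℤ) ∣ (e * (n * p + 1) : ℕ) := by
      have h := D.deg_dvd χ hnot
      rw [hM0] at h
      rcases hc with r | r <;> rw [r] at h <;> simpa using h
    obtain ⟨q, hq⟩ := hdvd
    push_cast at hq
    have hqpos : 0 < q := by
      by_contra hq0
      have : (deg χ : ℤ) * q ≤ 0 := mul_nonpos_of_nonneg_of_nonpos (by positivity) (by omega)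
      have : (0 : ℤ) < e * (n * p + 1) := by positivity
      omega
    obtain ⟨x, hx⟩ := hmod
    rcases hc with hc | hc
    · -- degree `x p - 1`
      right
      refine ⟨hc, ?_⟩
      rw [hc] at hx
      have hdx : (deg χ : ℤ) = p * x - 1 := by linarith
      have hx1 : 1 ≤ x := by
        by_contra hx0
        have : (p : ℤ) * x ≤ 0 := mul_nonpos_of_nonneg_of_nonpos (by positivity) (by omega)
        omega
      obtain ⟨v, hv⟩ : (p : ℤ) ∣ q + e := ⟨q * x - e * n, by rw [hdx] at hq; linear_combination hq⟩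
      have hqv : q = p * v - e := by linarith
      have heq : (e : ℤ) * (n + x) = v * (x * p - 1) := by
        apply mul_left_cancel₀ hpZ
        rw [hdx, hqv] at hq
        linear_combination hq
      have hv1 : 1 ≤ v := by
        by_contra hv0
        have : (p : ℤ) * v ≤ 0 := mul_nonpos_of_nonneg_of_nonpos (by positivity) (by omega)
        omega
      rcases lt_or_eq_of_le hx1 with hx2 | hx2
      · exfalso
        refine hnf.false_of_minus heZ htZ hetZ (show 2 ≤ x by omega) hv1 (fun hvt => ?_) heq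
        -- `v = t = 1` gives degree `e (n p + 1)`, too big
        obtain ⟨rfl, ht'⟩ := hvt
        have he' : (e : ℤ) = p - 1 := by rw [ht'] at hetZ; linarith
        have hq1 : q = 1 := by rw [hqv, he']; ring
        rw [hq1, mul_one] at hq
        have h1 := hsq χ (fun o h => hnot o h.symm)
        rw [hGZ, ← hq] at h1
        have h2 : (p : ℤ) + 1 ≤ n * p + 1 := by nlinarith
        have h3 : (2 : ℤ) * ((p : ℤ) + 1) ≤ e * (n * p + 1) := by
          rw [he']; exact mul_le_mul (by omega) h2 (by positivity) (by omega)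
        have h4 : (e : ℤ) * p * (n * p + 1) = p * (e * (n * p + 1)) := by ring
        rw [h4] at h1
        nlinarith
      · rw [← hx2, mul_one] at hdx
        omega
    · -- degree `x p + 1`
      left
      refine ⟨hc, ?_⟩
      rw [hc] at hx
      have hdx : (deg χ : ℤ) = p * x + 1 := by linarith
      have hx1 : 1 ≤ x := by
        by_contra hx0
        have : (p : ℤ) * x ≤ 0 := mul_nonpos_of_nonneg_of_nonpos (by positivity) (by omega)
        omega
      obtain ⟨v, hv⟩ : (p : ℤ) ∣ q - e := ⟨e * n - q * x, by rw [hdx] at hq; linear_combination -hq⟩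
      have hqv : q = p * v + e := by linarith
      have heq : (e : ℤ) * n = e * x + v * (x * p + 1) := by
        apply mul_left_cancel₀ hpZ
        rw [hdx, hqv] at hq
        linear_combination hq
      have hv0 : 0 ≤ v := by
        by_contra hv0
        have : (p : ℤ) * v ≤ p * (-1) := mul_le_mul_of_nonneg_left (by omega) (by positivity)
        omega
      rcases lt_or_eq_of_le hv0 with hv1 | hv1
      · exact (hnf.false_of_plus heZ hetZ hx1 (show 1 ≤ v by omega) heq).elim
      · rw [← hv1, zero_mul, add_zero] at heq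
        have hxn : x = n := (mul_left_cancel₀ heZ.ne' heq).symm
        rw [hxn] at hdx
        have : (deg χ : ℤ) = ((n * p + 1 : ℕ) : ℤ) := by push_cast; linarith
        exact_mod_cast this
  refine ⟨⟨D, R, hd, hR1, hR2, hR3, hR5, hdegR, ?_⟩⟩
  -- the exceptional degree
  obtain ⟨o⟩ : Nonempty s.Orb := inferInstance
  have hb2 : 2 ≤ D.b := by
    have h1 := (deg_spec (D.f o)).1
    have h2 : deg (D.f o) ≠ 1 := fun h => D.triv_ne o ((deg_eq_one_iff hne _).mp h)
    rw [D.deg_f] at h1 h2
    omega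
  have hpb : ¬ p ∣ D.b := by
    intro h
    have h1 : (p : ℤ) ∣ (e : ℤ) * D.eps := by
      have := dvd_sub (Int.natCast_dvd_natCast.mpr h) hb
      rwa [sub_sub_cancel] at this
    have h2 : (p : ℤ) ∣ (e : ℤ) := by
      rcases D.eps_eq with r | r <;> rw [r] at h1 <;> simpa using h1
    have := Int.le_of_dvd heZ h2
    omega
  obtain ⟨q, hq⟩ := Int.natCast_dvd_natCast.mpr (hM0 ▸ D.deg_dvd_exceptional o hpb)
  push_cast at hq
  have hqpos : 0 < q := by
    by_contra hq0
    have : (D.b : ℤ) * q ≤ 0 := mul_nonpos_of_nonneg_of_nonpos (by positivity) (by omega)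
    have : (0 : ℤ) < e * (n * p + 1) := by positivity
    omega
  have hbb : (t : ℤ) * (D.b : ℤ) ^ 2 ≤ Nat.card G := by
    have h := D.sum_sq_le ∅ (fun o => by simp)
    rw [Finset.sum_empty, zero_add] at h
    exact_mod_cast h
  obtain ⟨w, hw⟩ := hb
  rcases D.eps_eq with he1 | he1
  · -- `b = w p + e`
    left
    rw [he1, mul_one] at hw
    have hbw : (D.b : ℤ) = p * w + e := by linarith
    have hw0 : 0 ≤ w := by
      by_contra hw0
      have : (p : ℤ) * w ≤ p * (-1) := mul_le_mul_of_nonneg_left (by omega) (by positivity)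
      omega
    obtain ⟨v', hv'⟩ : (p : ℤ) ∣ (q - 1) * e :=
      ⟨e * n - q * w, by rw [hbw] at hq; linear_combination -hq⟩
    obtain ⟨v, hv⟩ : (p : ℤ) ∣ q - 1 :=
      ((Nat.prime_iff_prime_int.mp hp').dvd_mul.mp ⟨v', hv'⟩).resolve_right fun h => by
        have := Int.le_of_dvd heZ h; omega
    have hqv : q = p * v + 1 := by linarith
    have heq : (e : ℤ) * n = e * v + w * (v * p + 1) := by
      apply mul_left_cancel₀ hpZ
      rw [hbw, hqv] at hq
      linear_combination hq
    have hv0 : 0 ≤ v := by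
      by_contra hv0
      have : (p : ℤ) * v ≤ p * (-1) := mul_le_mul_of_nonneg_left (by omega) (by positivity)
      omega
    have hw00 : w = 0 := by
      by_contra hne'
      rcases lt_or_eq_of_le hv0 with hv1 | hv1
      · exact hnf.false_of_plus heZ hetZ (show 1 ≤ v by omega) (show 1 ≤ w by omega) heq
      · have hb' : (D.b : ℤ) = e * (n * p + 1) := by
          rw [hqv, ← hv1, mul_zero, zero_add, mul_one] at hq
          exact hq.symm
        rw [hb', hGZ] at hbb
        have h7 : (e : ℤ) * t * (n * p + 1) ≤ p := by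
          have hpos : (0 : ℤ) < e * (n * p + 1) := by positivity
          by_contra hlt
          have : (p : ℤ) * (e * (n * p + 1)) < e * t * (n * p + 1) * (e * (n * p + 1)) :=
            mul_lt_mul_of_pos_right (by omega) hpos
          nlinarith
        have h8 : (e : ℤ) * t * (1 * p + 1) ≤ e * t * (n * p + 1) := by
          refine mul_le_mul_of_nonneg_left ?_ (by positivity)
          nlinarith
        nlinarith
    refine ⟨he1, ?_, ?_⟩
    · rw [hw00, mul_zero, zero_add] at hbw
      exact_mod_cast hbw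
    · by_contra ht2
      have := ht1 (by omega)
      omega
  · -- `b = w p - e`
    right
    rw [he1] at hw
    have hbw : (D.b : ℤ) = p * w - e := by linarith
    have hw1 : 1 ≤ w := by
      by_contra hw0
      have : (p : ℤ) * w ≤ 0 := mul_nonpos_of_nonneg_of_nonpos (by positivity) (by omega)
      omega
    obtain ⟨v', hv'⟩ : (p : ℤ) ∣ (q + 1) * e :=
      ⟨q * w - e * n, by rw [hbw] at hq; linear_combination hq⟩
    obtain ⟨v, hv⟩ : (p : ℤ) ∣ q + 1 :=
      ((Nat.prime_iff_prime_int.mp hp').dvd_mul.mp ⟨v', hv'⟩).resolve_right fun h => by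
        have := Int.le_of_dvd heZ h; omega
    have hqv : q = p * v - 1 := by linarith
    have heq : (e : ℤ) * (n + v) = w * (v * p - 1) := by
      apply mul_left_cancel₀ hpZ
      rw [hbw, hqv] at hq
      linear_combination hq
    have hv1 : 1 ≤ v := by
      by_contra hv0
      have : (p : ℤ) * v ≤ 0 := mul_nonpos_of_nonneg_of_nonpos (by positivity) (by omega)
      omega
    refine ⟨he1, ?_⟩
    rcases lt_or_eq_of_le hv1 with hv2 | hv2
    · exfalso
      refine hnf.false_of_minus heZ htZ hetZ (show 2 ≤ v by omega) hw1 (fun hwt => ?_) heq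
      obtain ⟨hw', ht'⟩ := hwt
      rw [ht'] at hetZ
      rw [hw'] at hbw
      omega
    · rw [hqv, ← hv2, mul_one] at hq
      have h9 : (e : ℤ) * ((D.b : ℤ) * t) = e * (n * p + 1) := by
        rw [hq]; linear_combination (D.b : ℤ) * hetZ
      exact_mod_cast mul_left_cancel₀ heZ.ne' h9

end Cfsg.Agent.SmallGroups.Few
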