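import Cfsg.Agent.Lib.SmallGroups.Few.CaseTwo
import Cfsg.Agent.Lib.SmallGroups.SelfCent.PSLFinish
import Cfsg.Agent.Lib.CharCore.TISolvable
import Mathlib.GroupTheory.SchurZassenhaus

/-!
# The centraliser of an involution when all its conjugates have few fixed points
-/

set_option autoImplicit false

namespace Cfsg.Agent.SmallGroups.Few

open SelfCent SelfCent.Setup MulAction

variable {G : Type*} [Group G] [Fintype G] {p : ℕ} [hp : Fact p.Prime] (s : Setup G p)

/-- A cyclic complement of `⟨z⟩` in its normalizer. -/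
theorem exists_complement (hK : s.K = ⊥) :
    ∃ (φ : s.norm →* s.auto) (H : Subgroup G) (hH : H ≤ s.norm), IsCyclic H ∧
      Nat.card H = Nat.card s.auto ∧
      (∀ g : s.norm, (g : G) * s.z * (g : G)⁻¹ = s.zp ((φ g : (ZMod p)ˣ) : ZMod p)) ∧
      (∀ g : s.norm, φ g = 1 ↔ (g : G) ∈ Subgroup.zpowers s.z) ∧
      (∀ u (hu : u ∈ H), u ≠ 1 → φ ⟨u, hH hu⟩ ≠ 1) ∧
      ∀ g : s.norm, ∃ u, ∃ hu : u ∈ H, φ ⟨u, hH hu⟩ = φ g := by
  classical
  obtain ⟨φ, hsurj, hφ, hker⟩ := s.exists_act hK
  have hN : Nat.card s.norm = Nat.card s.auto * p := by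
    have h1 := s.card_normalizer
    rw [show Nat.card s.K = 1 by rw [hK, Subgroup.card_bot], mul_one] at h1
    exact h1
  have hidx : φ.ker.index = Nat.card s.auto := by
    rw [Subgroup.index_ker, MonoidHom.range_eq_top.mpr hsurj, Subgroup.card_top]
  have hkc : Nat.card φ.ker = p := by
    have h := φ.ker.card_mul_index
    rw [hidx, hN, mul_comm (Nat.card s.auto) p] at h
    exact Nat.eq_of_mul_eq_mul_right Nat.card_pos h
  have hcop : Nat.Coprime (Nat.card φ.ker) φ.ker.index := by
    rw [hkc, hidx, hp.out.coprime_iff_not_dvd]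
    intro h
    have h1 := Nat.le_of_dvd Nat.card_pos h
    have h2 : Nat.card s.auto ≤ p - 1 := by
      rw [← s.card_orb_mul]; exact Nat.le_mul_of_pos_left _ Nat.card_pos
    have := hp.out.two_le
    omega
  obtain ⟨H, hH⟩ := Subgroup.exists_right_complement'_of_coprime hcop
  have hinj : Function.Injective (φ.comp H.subtype) := by
    rw [← MonoidHom.ker_eq_bot_iff, eq_bot_iff]
    intro u hu
    have h1 : (u : s.norm) ∈ φ.ker ⊓ H := ⟨hu, u.2⟩
    rw [hH.disjoint.eq_bot, Subgroup.mem_bot] at h1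
    exact Subgroup.mem_bot.mpr (Subtype.ext h1)
  have hHc : Nat.card H = Nat.card s.auto := by rw [← hidx, hH.symm.index_eq_card]
  have hbij : Function.Bijective (φ.comp H.subtype) :=
    (Nat.bijective_iff_injective_and_card _).mpr ⟨hinj, hHc⟩
  have hcyc : IsCyclic H :=
    isCyclic_of_injective (φ.comp H.subtype) hinj
  let e := H.equivMapOfInjective s.norm.subtype s.norm.subtype_injective
  refine ⟨φ, H.map s.norm.subtype, Subgroup.map_subtype_le H, ?_, ?_, hφ, hker, ?_, ?_⟩
  · exact isCyclic_of_surjective e.toMonoidHom e.surjective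
  · rw [Nat.card_congr e.symm.toEquiv, hHc]
  · rintro u ⟨v, hv, rfl⟩ hu1 h1
    have h2 : φ.comp H.subtype ⟨v, hv⟩ = φ.comp H.subtype 1 := by
      rw [map_one]; exact h1
    have h3 : v = 1 := congrArg Subtype.val (hinj h2)
    exact hu1 (by rw [h3]; rfl)
  · intro g
    obtain ⟨⟨v, hv⟩, hv'⟩ := hbij.2 (φ g)
    exact ⟨v, ⟨v, hv, rfl⟩, hv'⟩

/-- The fixed cosets of `y` counted in the group. -/
theorem card_fixedBy_mul (y : G) :
    Nat.card (fixedBy (G ⧸ s.norm) y) * Nat.card s.norm = s.hits y := by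
  classical
  rw [hits, ← Nat.card_eq_finsetCard, mul_comm, ← Nat.card_prod]
  refine Nat.card_congr ((QuotientGroup.preimageMkEquivSubgroupProdSet s.norm
    (fixedBy (G ⧸ s.norm) y)).symm.trans (Equiv.subtypeEquiv (Equiv.inv G) fun g => ?_))
  simp only [Set.mem_preimage, mem_fixedBy, MulAction.Quotient.smul_coe, smul_eq_mul,
    Finset.mem_filter, Finset.mem_univ, true_and, Equiv.inv_apply, inv_inv]
  rw [QuotientGroup.eq]
  have h1 : (y * g)⁻¹ * g = (g⁻¹ * y * g)⁻¹ := by group
  rw [h1, inv_mem_iff]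

/-- The centraliser of an involution is small. -/
theorem structure_two (hK : s.K = ⊥) (hp5 : 5 ≤ p) {n : ℕ} (hn1 : 1 ≤ n) (he : 2 ≤ Nat.card s.auto)
    (hG : Nat.card G = Nat.card s.auto * p * (n * p + 1))
    (h2 : 2 ∣ Nat.card G)
    (hhit : ∀ y : G, y ≠ 1 → (2 ∣ orderOf y ∨ (y ∈ s.norm ∧ y ∉ Subgroup.zpowers s.z)) →
      s.hits y = (n + 1) * Nat.card s.norm) :
    (Nat.card s.auto = 2 ∧ ∀ x : G, orderOf x = 2 →
      (∀ c ∈ Subgroup.centralizer ({x} : Set G), c ^ 2 = 1) ∧
      Nat.card (Subgroup.centralizer ({x} : Set G)) = 2 * (n + 1)) ∨ n = 1 := by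
  classical
  set e := Nat.card s.auto with hedef
  set Ω := G ⧸ s.norm with hΩ
  have hfix : ∀ y : G, y ≠ 1 → (2 ∣ orderOf y ∨ (y ∈ s.norm ∧ y ∉ Subgroup.zpowers s.z)) →
      Nat.card (fixedBy Ω y) = n + 1 := by
    intro y h1 h2
    have h := card_fixedBy_mul s y
    rw [hhit y h1 h2] at h
    exact Nat.eq_of_mul_eq_mul_right Nat.card_pos h
  obtain ⟨φ, H, hH, hcyc, hHc, hφ, hker, hH1, hHsurj⟩ := exists_complement s hK
  rw [← hedef] at hHc
  have hNcard : Nat.card s.norm = e * p := by
    have h1 := s.card_normalizer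
    rw [show Nat.card s.K = 1 by rw [hK, Subgroup.card_bot], mul_one] at h1
    exact h1
  set o : Ω := QuotientGroup.mk (1 : G) with ho
  have hstab : ∀ g : G, g • o = o ↔ g ∈ s.norm := by
    intro g
    rw [ho, MulAction.Quotient.smul_coe, smul_eq_mul, mul_one, QuotientGroup.eq, mul_one,
      inv_mem_iff]
  have hpodd : p % 2 = 1 := by have := hp.out.eq_two_or_odd; omega
  have hsing : ∀ y : G, 2 ∣ orderOf y → y ≠ 1 ∧ ∃ g : G, g⁻¹ * y * g ∈ s.norm := by
    intro y hy
    have hy1 : y ≠ 1 := fun h => by rw [h, orderOf_one] at hy; omega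
    refine ⟨hy1, ?_⟩
    have h := hfix y hy1 (Or.inl hy)
    have hne : Nat.card (fixedBy Ω y) ≠ 0 := by omega
    obtain ⟨⟨Q, hQ⟩⟩ := (Nat.card_ne_zero.mp hne).1
    obtain ⟨g, rfl⟩ := QuotientGroup.mk_surjective Q
    refine ⟨g, ?_⟩
    rw [mem_fixedBy, MulAction.Quotient.smul_coe, smul_eq_mul, QuotientGroup.eq] at hQ
    have h1 : g⁻¹ * y * g = ((y * g)⁻¹ * g)⁻¹ := by group
    rw [h1]
    exact inv_mem hQ
  have hord : ∀ y : G, 2 ∣ orderOf y → orderOf y ∣ e * p := by
    intro y hy
    obtain ⟨-, g, hg⟩ := hsing y hy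
    have h1 := Subgroup.orderOf_dvd_natCard s.norm hg
    rw [hNcard] at h1
    rwa [show g⁻¹ * y * g = (MulAut.conj g⁻¹).toMonoidHom y by simp,
      orderOf_injective _ (MulEquiv.injective _)] at h1
  have heven : 2 ∣ e := by
    obtain ⟨y, hy⟩ := exists_prime_orderOf_dvd_card' 2 h2
    have h1 := hord y (by rw [hy])
    rw [hy] at h1
    rcases Nat.prime_two.dvd_mul.mp h1 with h | h
    · exact h
    · omega
  obtain ⟨x', hx'⟩ := exists_prime_orderOf_dvd_card' (G := H) 2 (by rw [hHc]; exact heven)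
  set x : G := (x' : G) with hxdef
  have hxH : x ∈ H := x'.2
  have hxo : orderOf x = 2 := by rw [hxdef, Subgroup.orderOf_coe, hx']
  have hx2 : x ^ 2 = 1 := hxo ▸ pow_orderOf_eq_one x
  have hxx : x * x = 1 := by rw [← sq]; exact hx2
  have hx1 : x ≠ 1 := fun h => by rw [h, orderOf_one] at hxo; omega
  have hxi : x⁻¹ = x := inv_eq_of_mul_eq_one_right hxx
  -- involutions of the normalizer
  have hneg : ∀ u (hu : u ∈ s.norm), u * u = 1 → u ≠ 1 →
      ((φ ⟨u, hu⟩ : (ZMod p)ˣ) : ZMod p) = -1 := by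
    intro u hu huu hu1
    set a := ((φ ⟨u, hu⟩ : (ZMod p)ˣ) : ZMod p) with ha
    have h1 : a * a = 1 := by
      rw [ha, ← Units.val_mul, ← Subgroup.coe_mul, ← map_mul,
        show (⟨u, hu⟩ : s.norm) * ⟨u, hu⟩ = 1 from Subtype.ext huu, map_one]
      simp
    refine (mul_self_eq_one_iff.mp h1).resolve_left fun h => hu1 ?_
    have h2 : φ ⟨u, hu⟩ = 1 := Subtype.ext (Units.ext (by simpa [ha] using h))
    obtain ⟨i, hi⟩ := ((isOfFinOrder_of_finite s.z).mem_powers_iff_mem_zpowers).mpr
      ((hker _).mp h2)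
    change s.z ^ i = u at hi
    rw [← s.zp_natCast] at hi
    rw [← hi, ← sq, s.zp_pow, s.zp_eq_one_iff] at huu
    rcases mul_eq_zero.mp huu with h3 | h3
    · rw [← hi, h3, s.zp_zero]
    · exfalso
      have hdvd : p ∣ 2 := (ZMod.natCast_eq_zero_iff 2 p).mp (by exact_mod_cast h3)
      have := Nat.le_of_dvd (by norm_num) hdvd
      omega
  have hxinv : ∀ k : ZMod p, x * s.zp k * x⁻¹ = s.zp (-k) := by
    intro k
    have h1 := hφ ⟨x, hH hxH⟩
    rw [hneg x (hH hxH) hxx hx1] at h1
    have h2 : x * s.zp 1 * x⁻¹ = s.zp (-1) := by rw [s.zp_one]; exact h1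
    have h3 := s.conj_zp_mul h2 k
    rwa [one_mul, neg_one_mul] at h3
  have h2ne : (2 : ZMod p) ≠ 0 := by
    intro h
    have hdvd : p ∣ 2 := (ZMod.natCast_eq_zero_iff 2 p).mp (by exact_mod_cast h)
    have := Nat.le_of_dvd (by norm_num) hdvd
    omega
  have hdecomp : ∀ g ∈ s.norm, ∃ k : ZMod p, ∃ u ∈ H, g = s.zp k * u := by
    intro g hg
    obtain ⟨u, hu, hu'⟩ := hHsurj ⟨g, hg⟩
    have h1 : φ (⟨g, hg⟩ * ⟨u, hH hu⟩⁻¹) = 1 := by rw [map_mul, map_inv, hu', mul_inv_cancel]
    obtain ⟨i, hi⟩ := ((isOfFinOrder_of_finite s.z).mem_powers_iff_mem_zpowers).mpr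
      ((hker _).mp h1)
    refine ⟨(i : ZMod p), u, hu, ?_⟩
    change s.z ^ i = g * u⁻¹ at hi
    rw [s.zp_natCast, hi, inv_mul_cancel_right]
  have hHcomm : ∀ u ∈ H, ∀ v ∈ H, Commute u v := fun u hu v hv =>
    congrArg Subtype.val ((IsCyclic.commGroup (α := H)).mul_comm (⟨u, hu⟩ : H) ⟨v, hv⟩)
  have hMN : ∀ g ∈ s.norm, Commute g x → g ∈ H := by
    intro g hg hc
    obtain ⟨k, u, hu, rfl⟩ := hdecomp g hg
    have h1 : Commute (s.zp k) x := by
      have := hc.mul_left (hHcomm u hu x hxH).inv_left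
      rwa [mul_inv_cancel_right] at this
    have h2 := hxinv k
    rw [← h1.eq, mul_inv_cancel_right] at h2
    have h3 : (2 : ZMod p) * k = 0 := by
      have := s.zp_injective h2
      linear_combination this
    rw [(mul_eq_zero.mp h3).resolve_left h2ne, s.zp_zero, one_mul]
    exact hu
  set F := fixedBy Ω x with hF
  have hFcard : Nat.card F = n + 1 := hfix x hx1 (Or.inl hxo.symm.dvd)
  have hHz : ∀ u ∈ H, u ≠ 1 → u ∉ Subgroup.zpowers s.z := fun u hu hu1 h =>
    hH1 u hu hu1 ((hker _).mpr h)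
  have hsubset : ∀ y g : G, y ∈ Subgroup.zpowers g → fixedBy Ω g ⊆ fixedBy Ω y := by
    intro y g hy
    obtain ⟨i, rfl⟩ := Subgroup.mem_zpowers_iff.mp hy
    exact MulAction.fixedBy_subset_fixedBy_zpow Ω g i
  have heq : ∀ A B : Set Ω, A ⊆ B → Nat.card A = Nat.card B → A = B := fun A B h1 h2 =>
    Set.eq_of_subset_of_ncard_le h1 (by rw [← Nat.card_coe_set_eq, ← Nat.card_coe_set_eq, h2])
      (Set.toFinite _)
  -- elements of `H` fix `F`
  have hHF : ∀ u ∈ H, u ≠ 1 → fixedBy Ω u = F := by
    obtain ⟨g₀, hg₀⟩ := hcyc.exists_generator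
    have hgen : ∀ u ∈ H, u ∈ Subgroup.zpowers (g₀ : G) := fun u hu => by
      obtain ⟨i, hi⟩ := Subgroup.mem_zpowers_iff.mp (hg₀ ⟨u, hu⟩)
      exact Subgroup.mem_zpowers_iff.mpr ⟨i, by simpa using congrArg Subtype.val hi⟩
    have hg1 : (g₀ : G) ≠ 1 := fun h => hx1 (by
      have := hgen x hxH
      rwa [h, Subgroup.zpowers_one_eq_bot, Subgroup.mem_bot] at this)
    have hc : ∀ u ∈ H, u ≠ 1 → fixedBy Ω (g₀ : G) = fixedBy Ω u := fun u hu hu1 =>
      heq _ _ (hsubset u g₀ (hgen u hu)) (by
        rw [hfix g₀ hg1 (Or.inr ⟨hH g₀.2, hHz g₀ g₀.2 hg1⟩),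
          hfix u hu1 (Or.inr ⟨hH hu, hHz u hu hu1⟩)])
    intro u hu hu1
    rw [← hc u hu hu1, hc x hxH hx1]
  have hoF : o ∈ F := mem_fixedBy.mpr ((hstab x).mpr (hH hxH))
  have hMperm : ∀ m : G, Commute m x → ∀ Q ∈ F, m • Q ∈ F := by
    intro m hm Q hQ
    rw [hF, mem_fixedBy] at hQ ⊢
    rw [← mul_smul, ← hm.eq, mul_smul, hQ]
  have htrans : ∀ Q ∈ F, ∃ m : G, Commute m x ∧ m • o = Q := by
    intro Q hQ
    obtain ⟨g, rfl⟩ := QuotientGroup.mk_surjective Q
    rw [hF, mem_fixedBy, MulAction.Quotient.smul_coe, smul_eq_mul, QuotientGroup.eq] at hQ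
    set u := g⁻¹ * x * g with hu
    have huN : u ∈ s.norm := by
      have h1 : u = ((x * g)⁻¹ * g)⁻¹ := by rw [hu]; group
      rw [h1]; exact inv_mem hQ
    have huu : u * u = 1 := by
      calc u * u = g⁻¹ * (x * x) * g := by rw [hu]; group
        _ = 1 := by rw [hxx, mul_one, inv_mul_cancel]
    have hu1 : u ≠ 1 := by
      intro h
      refine hx1 ?_
      calc x = g * u * g⁻¹ := by rw [hu]; group
        _ = 1 := by rw [h, mul_one, mul_inv_cancel]
    obtain ⟨k, v, hv, hkv⟩ := hdecomp u huN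
    have hvv : v * v = 1 ∧ v ≠ 1 := by
      have h1 := hneg u huN huu hu1
      have hzk : s.zp k ∈ s.norm :=
        Subgroup.le_normalizer (pow_mem (Subgroup.mem_zpowers _) _)
      have h2 : φ ⟨u, huN⟩ = φ ⟨v, hH hv⟩ := by
        rw [show (⟨u, huN⟩ : s.norm) = ⟨s.zp k, hzk⟩ * ⟨v, hH hv⟩ from Subtype.ext hkv, map_mul,
          (hker _).mpr (pow_mem (Subgroup.mem_zpowers _) _), one_mul]
      rw [h2] at h1
      constructor
      · by_contra hne
        refine hH1 (v * v) (mul_mem hv hv) hne ?_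
        rw [show (⟨v * v, hH (mul_mem hv hv)⟩ : s.norm) = ⟨v, hH hv⟩ * ⟨v, hH hv⟩ from rfl,
          map_mul]
        exact Subtype.ext (Units.ext (by simp [h1]))
      · rintro rfl
        have h3 : φ ⟨1, hH hv⟩ = 1 := map_one φ
        rw [h3] at h1
        have : (2 : ZMod p) = 0 := by
          simp only [OneMemClass.coe_one, Units.val_one] at h1
          linear_combination h1
        exact h2ne this
    have hvx : v = x := by
      by_contra hne
      have hvx1 : v * x ≠ 1 := fun h => hne (by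
        rw [mul_eq_one_iff_eq_inv, hxi] at h; exact h)
      refine hH1 (v * x) (mul_mem hv hxH) hvx1 ?_
      rw [show (⟨v * x, hH (mul_mem hv hxH)⟩ : s.norm) = ⟨v, hH hv⟩ * ⟨x, hH hxH⟩ from rfl,
        map_mul]
      exact Subtype.ext (Units.ext (by
        simp [hneg v (hH hv) hvv.1 hvv.2, hneg x (hH hxH) hxx hx1]))
    rw [hvx] at hkv
    -- `u` is the conjugate of `x` by `z ^ (k / 2)`
    have hconj : u = s.zp (k / 2) * x * (s.zp (k / 2))⁻¹ := by
      rw [hkv]
      have h1 := hxinv (-(k / 2))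
      rw [neg_neg] at h1
      have h2 : (s.zp (k / 2))⁻¹ = s.zp (-(k / 2)) := by
        apply inv_eq_of_mul_eq_one_right
        rw [← s.zp_add, add_neg_cancel, s.zp_zero]
      rw [h2, mul_assoc (s.zp (k / 2)), mul_inv_eq_iff_eq_mul.mp h1, ← mul_assoc, ← s.zp_add]
      congr 2
      field_simp
      ring
    set w := s.zp (k / 2) with hwdef
    refine ⟨g * w, ?_, ?_⟩
    · show g * w * x = x * (g * w)
      calc g * w * x = g * (w * x * w⁻¹) * w := by group
        _ = g * (g⁻¹ * x * g) * w := by rw [← hconj, hu]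
        _ = x * (g * w) := by group
    · rw [ho, MulAction.Quotient.smul_coe, smul_eq_mul, mul_one, QuotientGroup.eq]
      rw [mul_inv_rev, inv_mul_cancel_right]
      exact inv_mem (Subgroup.le_normalizer (pow_mem (Subgroup.mem_zpowers _) _))
  -- the centraliser outside `H`
  have hgenH : ∀ h : G, Commute h x → x ∈ Subgroup.zpowers h → h ∈ H := by
    intro h hc hxh
    refine hMN h ((hstab h).mp ?_) hc
    have h2 : 2 ∣ orderOf h := by
      rw [← hxo]; exact orderOf_dvd_of_mem_zpowers hxh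
    have hh1 : h ≠ 1 := fun h' => by rw [h', orderOf_one] at h2; omega
    have h3 := heq _ _ (hsubset x h hxh) (by rw [hfix h hh1 (Or.inl h2), hFcard])
    have : o ∈ fixedBy Ω h := by rw [h3]; exact hoF
    exact mem_fixedBy.mp this
  have hodd : ∀ h : G, Commute h x → ¬ 2 ∣ orderOf h → h ∈ H := by
    intro h hc h2
    have hpow : (h * x) ^ orderOf h = x := by
      rw [hc.mul_pow, pow_orderOf_eq_one, one_mul]
      obtain ⟨j, hj⟩ : Odd (orderOf h) := Nat.odd_iff.mpr (by omega)
      rw [hj, pow_succ, pow_mul, hx2, one_pow, one_mul]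
    have h1 : h * x ∈ H := hgenH _ (hc.mul_left (Commute.refl x)) (by
      rw [Subgroup.mem_zpowers_iff]; exact ⟨orderOf h, by rw [zpow_natCast]; exact hpow⟩)
    have := mul_mem h1 hxH
    rwa [mul_assoc, hxx, mul_one] at this
  -- a power outside `H` with square in `H`
  have hhalf : ∀ h : G, Commute h x → h ∉ H →
      ∃ m : ℕ, h ^ m ∉ H ∧ (h ^ m) * (h ^ m) = 1 := by
    intro h hc hh
    obtain ⟨a, m, hm, ham⟩ := Nat.exists_eq_two_pow_mul_odd
      (isOfFinOrder_of_finite h).orderOf_pos.ne'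
    have hodd' : h ^ 2 ^ a ∈ H := by
      refine hodd _ (hc.pow_left _) ?_
      rw [orderOf_pow' _ (pow_ne_zero _ two_ne_zero), ham, Nat.gcd_comm,
        Nat.gcd_eq_left (Dvd.intro m rfl), Nat.mul_div_cancel_left _ (Nat.two_pow_pos _)]
      exact fun h => (Nat.not_even_iff_odd.mpr hm) (even_iff_two_dvd.mpr h)
    have hm' : h ^ m ∉ H := by
      intro h'
      apply hh
      have hcop : Nat.gcd (2 ^ a) m = 1 :=
        Nat.Coprime.pow_left _ (Nat.coprime_two_left.mpr hm)
      have := Nat.gcd_eq_gcd_ab (2 ^ a) m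
      rw [hcop] at this
      rw [← zpow_one h]
      push_cast at this
      rw [this, zpow_add, zpow_mul, zpow_mul]
      refine mul_mem (zpow_mem ?_ _) (zpow_mem ?_ _)
      · have : h ^ ((2 : ℤ) ^ a) = h ^ (2 ^ a : ℕ) := by rw [← zpow_natCast]; push_cast; rfl
        rw [this]; exact hodd'
      · rw [zpow_natCast]; exact h'
    have hex : ∃ i, h ^ (m * 2 ^ i) ∈ H :=
      ⟨a, by rw [mul_comm, ← ham, pow_orderOf_eq_one]; exact one_mem _⟩
    set i := Nat.find hex with hi
    have hspec : h ^ (m * 2 ^ i) ∈ H := Nat.find_spec hex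
    have hi0 : i ≠ 0 := fun h0 => hm' (by rw [h0, pow_zero, mul_one] at hspec; exact hspec)
    have hlt : h ^ (m * 2 ^ (i - 1)) ∉ H := Nat.find_min hex (by omega)
    refine ⟨m * 2 ^ (i - 1), hlt, ?_⟩
    have hsq : h ^ (m * 2 ^ (i - 1)) * h ^ (m * 2 ^ (i - 1)) = h ^ (m * 2 ^ i) := by
      rw [← pow_add, ← two_mul]
      congr 1
      rw [show 2 ^ i = 2 ^ (i - 1) * 2 by rw [← pow_succ]; congr 1; omega]
      ring
    by_contra hne
    rw [hsq] at hne
    -- a nontrivial `2`-power order element of `H` has `x` among its powers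
    have h2o : 2 ∣ orderOf (h ^ (m * 2 ^ i)) := by
      have h1 : orderOf (h ^ (m * 2 ^ i)) ∣ 2 ^ a := by
        refine orderOf_dvd_of_pow_eq_one ?_
        rw [← pow_mul, show m * 2 ^ i * 2 ^ a = 2 ^ a * m * 2 ^ i by ring, ← ham, pow_mul,
          pow_orderOf_eq_one, one_pow]
      obtain ⟨j, -, hj⟩ := (Nat.dvd_prime_pow Nat.prime_two).mp h1
      rw [hj]
      refine dvd_pow_self 2 fun h0 => hne ?_
      rw [h0, pow_zero] at hj
      exact orderOf_eq_one_iff.mp hj
    set w := h ^ (m * 2 ^ i) with hw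
    have hxw : x ∈ Subgroup.zpowers w := by
      have hv : orderOf (w ^ (orderOf w / 2)) = 2 :=
        orderOf_pow_orderOf_div (isOfFinOrder_of_finite w).orderOf_pos.ne' h2o
      set v := w ^ (orderOf w / 2) with hvdef
      have hvH : v ∈ H := pow_mem hspec _
      have hvv : v * v = 1 := by rw [← sq, ← hv]; exact pow_orderOf_eq_one v
      have hv1 : v ≠ 1 := fun h => by rw [h, orderOf_one] at hv; omega
      have : v = x := by
        by_contra hne'
        have hvx1 : v * x ≠ 1 := fun h => hne' (by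
          rw [mul_eq_one_iff_eq_inv, hxi] at h; exact h)
        refine hH1 (v * x) (mul_mem hvH hxH) hvx1 ?_
        rw [show (⟨v * x, hH (mul_mem hvH hxH)⟩ : s.norm) = ⟨v, hH hvH⟩ * ⟨x, hH hxH⟩ from rfl,
          map_mul]
        exact Subtype.ext (Units.ext (by
          simp [hneg v (hH hvH) hvv hv1, hneg x (hH hxH) hxx hx1]))
      rw [← this]
      exact pow_mem (Subgroup.mem_zpowers _) _
    refine hlt (hgenH _ (hc.pow_left _) ?_)
    refine (Subgroup.zpowers_le.mpr ?_) hxw
    rw [← hsq]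
    exact mul_mem (Subgroup.mem_zpowers _) (Subgroup.mem_zpowers _)
  by_cases h4 : e = 2
  · -- dihedral normalizer
    left
    refine ⟨h4, ?_⟩
    have hH2 : ∀ u ∈ H, u * u = 1 := fun u hu => by
      rw [← sq]
      have h1 := Subgroup.orderOf_dvd_natCard H hu
      rw [hHc, h4] at h1
      exact orderOf_dvd_iff_pow_eq_one.mp h1
    have hsq2 : ∀ h : G, Commute h x → h ^ 2 = 1 := by
      intro h hc
      by_cases h2 : 2 ∣ orderOf h
      · have h5 := hord h h2
        rw [h4] at h5
        rcases (show Nat.Coprime (orderOf h) p ∨ p ∣ orderOf h from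
          (Nat.coprime_or_dvd_of_prime hp.out _).imp_left Nat.Coprime.symm) with h6 | h6
        · exact orderOf_dvd_iff_pow_eq_one.mp (h6.dvd_of_dvd_mul_right h5)
        · exfalso
          -- an element of order divisible by `p` centralises only powers of itself
          set v := h ^ (orderOf h / p) with hvdef
          have hv : orderOf v = p :=
            orderOf_pow_orderOf_div (isOfFinOrder_of_finite h).orderOf_pos.ne' h6
          have hvH := hodd v (hc.pow_left _) (by rw [hv]; omega)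
          have h7 := Subgroup.orderOf_dvd_natCard H hvH
          rw [hv, hHc, h4] at h7
          have := Nat.le_of_dvd (by norm_num) h7
          omega
      · rw [sq]; exact hH2 h (hodd h hc h2)
    have hconj : ∀ u : G, orderOf u = 2 → ∃ g : G, g * x * g⁻¹ = u := by
      intro u hu
      obtain ⟨hu1, g, hg⟩ := hsing u (by rw [hu])
      obtain ⟨k, v, hv, hkv⟩ := hdecomp _ hg
      have hord2 : orderOf (g⁻¹ * u * g) = 2 := by
        rw [show g⁻¹ * u * g = (MulAut.conj g⁻¹).toMonoidHom u by simp,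
          orderOf_injective _ (MulEquiv.injective _), hu]
      have hvx : v = x := by
        by_cases hv1 : v = 1
        · exfalso
          rw [hv1, mul_one] at hkv
          rw [hkv] at hord2
          by_cases hk : k = 0
          · rw [hk, s.zp_zero, orderOf_one] at hord2; omega
          · rw [BlocksCore.CyclicBlock.orderOf_zp s hk] at hord2; omega
        · obtain ⟨y, hy⟩ := hcyc.exists_generator
          have hcard2 : Nat.card H = 2 := by rw [hHc, h4]
          obtain ⟨a, b, -, hab⟩ := Nat.card_eq_two_iff.mp hcard2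
          have h3 : ∀ q : H, q = 1 ∨ q = ⟨x, hxH⟩ := by
            intro q
            by_contra hne
            push_neg at hne
            have hne' : (⟨x, hxH⟩ : H) ≠ 1 := fun h => hx1 (congrArg Subtype.val h)
            have m1 : q ∈ ({a, b} : Set H) := hab ▸ Set.mem_univ _
            have m2 : (1 : H) ∈ ({a, b} : Set H) := hab ▸ Set.mem_univ _
            have m3 : (⟨x, hxH⟩ : H) ∈ ({a, b} : Set H) := hab ▸ Set.mem_univ _
            simp only [Set.mem_insert_iff, Set.mem_singleton_iff] at m1 m2 m3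
            grind
          rcases h3 ⟨v, hv⟩ with h | h
          · exact absurd (congrArg Subtype.val h) hv1
          · exact congrArg Subtype.val h
      rw [hvx] at hkv
      refine ⟨g * s.zp (k / 2), ?_⟩
      have h1 := hxinv (-(k / 2))
      rw [neg_neg] at h1
      have h2 : (s.zp (k / 2))⁻¹ = s.zp (-(k / 2)) := by
        apply inv_eq_of_mul_eq_one_right
        rw [← s.zp_add, add_neg_cancel, s.zp_zero]
      have h5 : s.zp (k / 2) * x * (s.zp (k / 2))⁻¹ = g⁻¹ * u * g := by
        rw [hkv, h2, mul_assoc (s.zp (k / 2)), mul_inv_eq_iff_eq_mul.mp h1, ← mul_assoc,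
          ← s.zp_add]
        congr 2
        field_simp
        ring
      calc g * s.zp (k / 2) * x * (g * s.zp (k / 2))⁻¹
          = g * (s.zp (k / 2) * x * (s.zp (k / 2))⁻¹) * g⁻¹ := by group
        _ = u := by rw [h5]; group
    intro u hu
    obtain ⟨g, rfl⟩ := hconj u hu
    have hcard : Nat.card (Subgroup.centralizer ({x} : Set G)) = 2 * (n + 1) := by
      set M := Subgroup.centralizer ({x} : Set G) with hM
      have hst : Nat.card (MulAction.stabilizer M o) = 2 := by
        rw [← h4, ← hHc]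
        refine Nat.card_congr
          { toFun := fun m => ⟨(m.1 : G), hMN _ ((hstab _).mp (mem_stabilizer_iff.mp m.2))
              (Subgroup.mem_centralizer_singleton_iff.mp m.1.2)⟩
            invFun := fun u => ⟨⟨u.1, Subgroup.mem_centralizer_singleton_iff.mpr
              (hHcomm u.1 u.2 x hxH).eq⟩, mem_stabilizer_iff.mpr ((hstab _).mpr (hH u.2))⟩
            left_inv := fun m => rfl
            right_inv := fun u => rfl }
      have horb : MulAction.orbit M o = F := by
        ext Q
        constructor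
        · rintro ⟨m, rfl⟩
          exact hMperm m.1 (Subgroup.mem_centralizer_singleton_iff.mp m.2) o hoF
        · intro hQ
          obtain ⟨m, hm, hmQ⟩ := htrans Q hQ
          exact ⟨⟨m, Subgroup.mem_centralizer_singleton_iff.mpr hm.eq⟩, hmQ⟩
      have h1 := (MulAction.stabilizer M o).card_mul_index
      rw [MulAction.index_stabilizer, horb, ← Nat.card_coe_set_eq, hFcard, hst] at h1
      exact h1.symm
    refine ⟨fun c hc => ?_, ?_⟩
    · have h1 : Commute (g⁻¹ * c * g) x := by
        have h2 := Subgroup.mem_centralizer_singleton_iff.mp hc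
        calc g⁻¹ * c * g * x = g⁻¹ * (c * (g * x * g⁻¹)) * g := by group
          _ = g⁻¹ * (g * x * g⁻¹ * c) * g := by rw [h2]
          _ = x * (g⁻¹ * c * g) := by group
      have h2 := hsq2 _ h1
      rwa [show g⁻¹ * c * g = g⁻¹ * c * g⁻¹⁻¹ by rw [inv_inv], conj_pow, conj_eq_one_iff] at h2
    · rw [SelfCent.card_centralizer_conj, hcard]
  · right
    -- an element of order `4` or of odd prime order
    obtain ⟨r, hr, hre, hr4⟩ : ∃ r, (r = 4 ∨ (r.Prime ∧ r ≠ 2)) ∧ r ∣ e ∧ (r ≠ 4 → ¬ 4 ∣ e) := by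
      by_cases h : 4 ∣ e
      · exact ⟨4, Or.inl rfl, h, fun h' => absurd rfl h'⟩
      · obtain ⟨m, hm⟩ := heven
        have hm1 : m ≠ 1 := fun h => h4 (by rw [hm, h])
        refine ⟨m.minFac, Or.inr ⟨Nat.minFac_prime hm1, fun h2 => h ?_⟩,
          hm ▸ dvd_mul_of_dvd_right m.minFac_dvd 2, fun _ => h⟩
        have h5 := Nat.minFac_dvd m
        rw [h2] at h5
        rw [hm]
        exact Nat.mul_dvd_mul_left 2 h5
    obtain ⟨g', hg'⟩ : ∃ g : H, orderOf g = r := by
      obtain ⟨g₀, hg₀⟩ := IsCyclic.exists_ofOrder_eq_natCard (α := H)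
      refine ⟨g₀ ^ (Nat.card H / r), ?_⟩
      have hr' : r ∣ orderOf g₀ := by rw [hg₀, hHc]; exact hre
      rw [← hg₀]
      exact orderOf_pow_orderOf_div (isOfFinOrder_of_finite _).orderOf_pos.ne' hr'
    set g : G := (g' : G) with hgdef
    have hgH : g ∈ H := g'.2
    have hgo : orderOf g = r := by rw [hgdef, Subgroup.orderOf_coe, hg']
    have hg1 : g ≠ 1 := fun h => by
      rw [h, orderOf_one] at hgo
      rcases hr with h' | ⟨h', -⟩
      · omega
      · exact h'.one_lt.ne hgo
    have hgx : Commute g x := hHcomm g hgH x hxH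
    -- the centraliser of `g` and `x` is `H`
    have hcent : ∀ h : G, Commute h x → Commute h g → h ∈ H := by
      intro h hc hcg
      by_contra hh
      obtain ⟨m, hm, hmm⟩ := hhalf h hc hh
      set v := h ^ m with hvdef
      have hvc : Commute v x := hc.pow_left _
      have hvg : Commute v g := hcg.pow_left _
      have hv1 : v ≠ 1 := fun h' => hm (h' ▸ one_mem _)
      have hvo : orderOf v = 2 := orderOf_eq_prime (by rw [sq]; exact hmm) hv1
      rcases hr with hr' | ⟨hrp, hr2⟩
      · apply hm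
        have h2 : (g * v) ^ 2 = x := by
          rw [hvg.symm.mul_pow, sq v, hmm, mul_one]
          have hgg : g ^ 2 ≠ 1 := fun h' => by
            have := orderOf_dvd_of_pow_eq_one h'
            rw [hgo, hr'] at this
            norm_num at this
          by_contra hne
          have h4' : g ^ 2 * g ^ 2 = 1 := by
            rw [← pow_add, show 2 + 2 = r by omega, ← hgo]; exact pow_orderOf_eq_one g
          have hvx1 : g ^ 2 * x ≠ 1 := fun h => hne (by
            rw [mul_eq_one_iff_eq_inv, hxi] at h; exact h)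
          refine hH1 (g ^ 2 * x) (mul_mem (pow_mem hgH _) hxH) hvx1 ?_
          rw [show (⟨g ^ 2 * x, hH (mul_mem (pow_mem hgH _) hxH)⟩ : s.norm) =
            ⟨g ^ 2, hH (pow_mem hgH _)⟩ * ⟨x, hH hxH⟩ from rfl, map_mul]
          exact Subtype.ext (Units.ext (by
            simp [hneg (g ^ 2) (hH (pow_mem hgH _)) h4' hgg, hneg x (hH hxH) hxx hx1]))
        have h5 : g * v ∈ H := hgenH _ (hgx.mul_left hvc)
          (h2 ▸ pow_mem (Subgroup.mem_zpowers _) _)
        have := mul_mem (inv_mem hgH) h5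
        rwa [inv_mul_cancel_left] at this
      · -- a common fixed point of `g v`
        have hcop : Nat.Coprime (orderOf g) (orderOf v) := by
          rw [hgo, hvo]; exact (Nat.coprime_primes hrp Nat.prime_two).mpr hr2
        have hgv : orderOf (g * v) = r * 2 := by
          rw [hvg.symm.orderOf_mul_eq_mul_orderOf_of_coprime hcop, hgo, hvo]
        have hne : g * v ≠ 1 := fun h' => by
          rw [h', orderOf_one] at hgv; omega
        have hc0 := hfix (g * v) hne (Or.inl (by rw [hgv]; exact dvd_mul_left 2 r))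
        obtain ⟨⟨Q, hQ⟩⟩ := (Nat.card_ne_zero.mp (by omega : Nat.card (fixedBy Ω (g * v)) ≠ 0)).1
        have hgmem : g ∈ Subgroup.zpowers (g * v) := by
          have h1 : (g * v) ^ (r + 1) = g := by
            rw [hvg.symm.mul_pow, pow_succ g, ← hgo, pow_orderOf_eq_one, one_mul]
            have h2 : Even (orderOf g + 1) := by
              rw [hgo]; exact (hrp.odd_of_ne_two hr2).add_one
            obtain ⟨j, hj⟩ := h2
            rw [hj, ← two_mul, pow_mul, sq v, hmm, one_pow, mul_one]
          exact Subgroup.mem_zpowers_iff.mpr ⟨(r + 1 : ℕ), by rw [zpow_natCast]; exact h1⟩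
        have hvmem : v ∈ Subgroup.zpowers (g * v) := by
          have := Subgroup.mul_mem _ (Subgroup.inv_mem _ hgmem) (Subgroup.mem_zpowers (g * v))
          rwa [inv_mul_cancel_left] at this
        have hQF : Q ∈ F := by
          rw [← hHF g hgH hg1]; exact hsubset g _ hgmem hQ
        have hQv : v • Q = Q := mem_fixedBy.mp (hsubset v _ hvmem hQ)
        obtain ⟨w, hw, rfl⟩ := htrans Q hQF
        apply hm
        -- `v` fixes a point of `F`, so it lies in `H`
        have h1 : w⁻¹ * v * w ∈ H := by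
          refine hMN _ ((hstab _).mp ?_) ((hw.inv_left.mul_left hvc).mul_left hw)
          rw [mul_smul, mul_smul, hQv, inv_smul_smul]
        have h2 : w⁻¹ * v * w ≠ 1 := fun h' => hv1 (by
          calc v = w * (w⁻¹ * v * w) * w⁻¹ := by group
            _ = 1 := by rw [h', mul_one, mul_inv_cancel])
        have h3 : w⁻¹ • o ∈ F := hMperm _ hw.inv_left o hoF
        rw [← hHF _ h1 h2, mem_fixedBy, ← mul_smul,
          show w⁻¹ * v * w * w⁻¹ = w⁻¹ * v by group, mul_smul, smul_left_cancel_iff] at h3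
        exact hMN v ((hstab v).mp h3) hvc
    -- conjugation on `⟨g⟩` gives at most two images
    have himg : ∀ w : G, Commute w x → w * g * w⁻¹ = g ∨ w * g * w⁻¹ = g⁻¹ := by
      intro w hw
      by_cases hwH : w ∈ H
      · exact Or.inl (by rw [(hHcomm w hwH g hgH).eq, mul_inv_cancel_right])
      have hconjH : w * g * w⁻¹ ∈ H := by
        refine hMN _ ((hstab _).mp ?_) ((hw.mul_left hgx).mul_left hw.inv_left)
        have h1 : w⁻¹ • o ∈ F := hMperm _ hw.inv_left o hoF
        rw [← hHF g hgH hg1, mem_fixedBy] at h1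
        rw [mul_smul, mul_smul, h1, smul_inv_smul]
      have hcord : orderOf (w * g * w⁻¹) = r := by
        rw [show w * g * w⁻¹ = (MulAut.conj w).toMonoidHom g by simp,
          orderOf_injective _ (MulEquiv.injective _), hgo]
      have hzp : Subgroup.zpowers (w * g * w⁻¹) = Subgroup.zpowers g := by
        have h1 : ((Subgroup.zpowers (w * g * w⁻¹)).subgroupOf H) =
            ((Subgroup.zpowers g).subgroupOf H) := by
          refine CharCore.subgroup_eq_of_card_eq_of_isCyclic (n := r) ?_ ?_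
          · rw [Nat.card_congr (Subgroup.subgroupOfEquivOfLe (Subgroup.zpowers_le.mpr hconjH)).toEquiv,
              Nat.card_zpowers, hcord]
          · rw [Nat.card_congr (Subgroup.subgroupOfEquivOfLe (Subgroup.zpowers_le.mpr hgH)).toEquiv,
              Nat.card_zpowers, hgo]
        have h2 := congrArg (Subgroup.map H.subtype) h1
        rwa [Subgroup.map_subgroupOf_eq_of_le (Subgroup.zpowers_le.mpr hconjH),
          Subgroup.map_subgroupOf_eq_of_le (Subgroup.zpowers_le.mpr hgH)] at h2
      obtain ⟨i, hi⟩ := ((isOfFinOrder_of_finite g).mem_powers_iff_mem_zpowers).mpr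
        (hzp ▸ Subgroup.mem_zpowers (w * g * w⁻¹) : w * g * w⁻¹ ∈ Subgroup.zpowers g)
      change g ^ i = w * g * w⁻¹ at hi
      rw [← hi]
      rcases hr with hr' | ⟨hrp, hr2⟩
      · -- order `4`
        have hmod : g ^ i = g ^ (i % 4) := by rw [← hr', ← hgo, pow_mod_orderOf]
        have hord' : orderOf (g ^ (i % 4)) = 4 := by rw [← hmod, hi, hcord, hr']
        have hg4 : g ^ 4 = 1 := by rw [← hr', ← hgo]; exact pow_orderOf_eq_one g
        have hlt : i % 4 < 4 := Nat.mod_lt _ (by norm_num)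
        rw [hmod]
        interval_cases h : i % 4
        · rw [pow_zero, orderOf_one] at hord'; omega
        · exact Or.inl (pow_one g)
        · exfalso
          have := orderOf_dvd_of_pow_eq_one (show (g ^ 2) ^ 2 = 1 by rw [← pow_mul]; exact hg4)
          rw [hord'] at this
          norm_num at this
        · exact Or.inr (eq_inv_of_mul_eq_one_left (by rw [← pow_succ]; exact hg4))
      · -- odd prime order
        have hw2 : w * w ∈ H := by
          by_contra hne
          obtain ⟨m, hm, hmm⟩ := hhalf (w * w) (hw.mul_left hw) hne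
          have h4o : orderOf (w ^ m) = 2 ^ (1 + 1) := by
            refine orderOf_eq_prime_pow (fun h' => hm ?_) ?_
            · have h6 : (w * w) ^ m = (w ^ m) ^ 2 := by rw [← sq, ← pow_mul, ← pow_mul, mul_comm]
              rw [h6, ← pow_one 2, h']; exact one_mem _
            · rw [← hmm, ← sq, ← sq, ← pow_mul, ← pow_mul, ← pow_mul]
              congr 1
              ring
          have h6 := hord (w ^ m) (by rw [h4o]; norm_num)
          rw [h4o] at h6
          apply hr4 (by intro h'; rw [h'] at hrp; norm_num at hrp)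
          exact Nat.Coprime.dvd_of_dvd_mul_right
            (Nat.Coprime.pow_left 2 (Nat.coprime_two_left.mpr (hp.out.odd_of_ne_two (by omega)))) h6
        have h7 : g ^ (i * i) = g := by
          rw [pow_mul, hi, conj_pow, hi]
          calc w * (w * g * w⁻¹) * w⁻¹ = (w * w) * g * (w * w)⁻¹ := by group
            _ = g := by rw [(hHcomm _ hw2 g hgH).eq, mul_inv_cancel_right]
        have h8 : ((i * i : ℕ) : ZMod r) = ((1 : ℕ) : ZMod r) := by
          rw [ZMod.natCast_eq_natCast_iff, ← hgo]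
          exact pow_eq_pow_iff_modEq.mp (by rw [pow_one]; exact h7)
        haveI := Fact.mk hrp
        push_cast at h8
        rcases mul_self_eq_one_iff.mp h8 with h9 | h9
        · left
          conv_rhs => rw [← pow_one g]
          rw [pow_eq_pow_iff_modEq, hgo, ← ZMod.natCast_eq_natCast_iff]
          simpa using h9
        · right
          refine eq_inv_of_mul_eq_one_left ?_
          rw [← pow_succ, ← orderOf_dvd_iff_pow_eq_one, hgo, ← ZMod.natCast_eq_zero_iff]
          push_cast
          rw [h9, neg_add_cancel]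
    choose m hmc hmo using htrans
    have hinj : Function.Injective
        (fun Q : F => decide (m Q.1 Q.2 * g * (m Q.1 Q.2)⁻¹ = g)) := by
      intro Q R hQR
      have h1 : (m Q.1 Q.2)⁻¹ * m R.1 R.2 ∈ H := by
        refine hcent _ ((hmc _ _).inv_left.mul_left (hmc _ _)) ?_
        have h2 : m Q.1 Q.2 * g * (m Q.1 Q.2)⁻¹ = m R.1 R.2 * g * (m R.1 R.2)⁻¹ := by
          simp only [decide_eq_decide] at hQR
          rcases himg _ (hmc Q.1 Q.2) with hq | hq <;> rcases himg _ (hmc R.1 R.2) with hr' | hr'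
          · rw [hq, hr']
          · rw [hq, (hQR.mp hq)]
          · rw [(hQR.mpr hr'), hr']
          · rw [hq, hr']
        show _ * g = g * _
        calc (m Q.1 Q.2)⁻¹ * m R.1 R.2 * g
            = (m Q.1 Q.2)⁻¹ * (m R.1 R.2 * g * (m R.1 R.2)⁻¹) * m R.1 R.2 := by group
          _ = (m Q.1 Q.2)⁻¹ * (m Q.1 Q.2 * g * (m Q.1 Q.2)⁻¹) * m R.1 R.2 := by rw [h2]
          _ = g * ((m Q.1 Q.2)⁻¹ * m R.1 R.2) := by group
      have h3 := (hstab _).mpr (hH h1)
      rw [mul_smul, inv_smul_eq_iff, hmo, hmo] at h3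
      exact Subtype.ext h3.symm
    have h10 := Nat.card_le_card_of_injective _ hinj
    rw [hFcard] at h10
    simp at h10
    omega

end Cfsg.Agent.SmallGroups.Few
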